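import Cfsg.Agent.L.Golay.Order2
/-!
Permutations of the 24 points in packed form.
-/
set_option autoImplicit false
namespace CfsgL.Golay
open Cfsg CfsgL.Comp
open scoped Pointwise

/-- `g` is the permutation packed in `P` -/
def Agrees (g : Equiv.Perm GolayPt) (P : ℕ) : Prop := ∀ i < 24, toIdx (g (ofIdx i)) = papp P i

theorem Agrees.apply {g : Equiv.Perm GolayPt} {P : ℕ} (h : Agrees g P) (p : GolayPt) :
    toIdx (g p) = papp P (toIdx p) := by
  have := h (toIdx p) (toIdx_lt p)
  rwa [ofIdx_toIdx] at this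

theorem Agrees.mset_img {g : Equiv.Perm GolayPt} {P : ℕ} (h : Agrees g P) (m : ℕ) :
    mset (img P m) = g • mset m := by
  ext p
  rw [mem_mset, testBit_img, Finset.mem_smul_finset]
  constructor
  · rintro ⟨i, hi, h1, h2⟩
    refine ⟨ofIdx i, ?_, ?_⟩
    · rw [mem_mset, toIdx_ofIdx hi]; exact h1
    · rw [Equiv.Perm.smul_def, ← toIdx_inj, h i hi, h2]
  · rintro ⟨q, hq, rfl⟩
    refine ⟨toIdx q, toIdx_lt q, mem_mset.1 hq, ?_⟩
    rw [Equiv.Perm.smul_def, h.apply]

theorem Agrees.img_lt {g : Equiv.Perm GolayPt} {P : ℕ} (h : Agrees g P) (m : ℕ) :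
    img P m < 2 ^ 24 := by
  apply Nat.lt_pow_two_of_testBit
  intro i hi
  by_contra hne
  rw [Bool.not_eq_false, testBit_img] at hne
  obtain ⟨j, hj, _, h2⟩ := hne
  have h3 := toIdx_lt (g (ofIdx j))
  rw [h j hj] at h3
  omega

theorem Agrees.mem_M24_iff {g : Equiv.Perm GolayPt} {P : ℕ} (h : Agrees g P) :
    g ∈ M24 ↔ inM24 P = true := by
  constructor
  · intro hg
    unfold inM24
    rw [List.all_eq_true]
    intro b hb
    rw [force_eq, ← mset_mem_supports (h.img_lt b), h.mset_img, smul_mem_supports hg]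
    have hb' : ∀ b ∈ Bas, b < 2 ^ 24 ∧ inCode b = true := by decide +kernel
    rw [mset_mem_supports (hb' b hb).1]
    exact (hb' b hb).2
  · intro h'
    apply mem_M24_of_bas
    intro b hb
    unfold inM24 at h'
    rw [List.all_eq_true] at h'
    have := h' b hb
    rw [force_eq] at this
    rw [← h.mset_img, mset_mem_supports (h.img_lt b)]
    exact this

/-- pack a function -/
def pack (f : ℕ → ℕ) : ℕ :=
  Nat.rec (motive := fun _ => ℕ) 0 (fun i ih => Nat.lor (Nat.shiftLeft (f i) (Nat.mul 5 i)) ih) 24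

theorem pack_aux (f : ℕ → ℕ) (k : ℕ) (hf : ∀ i < k, f i < 32) :
    (Nat.rec (motive := fun _ => ℕ) 0
      (fun i ih => Nat.lor (Nat.shiftLeft (f i) (Nat.mul 5 i)) ih) k < 2 ^ (5 * k)) ∧
    ∀ i < k, papp (Nat.rec (motive := fun _ => ℕ) 0
      (fun i ih => Nat.lor (Nat.shiftLeft (f i) (Nat.mul 5 i)) ih) k) i = f i := by
  induction k with
  | zero => simp
  | succ k ih =>
    obtain ⟨h1, h2⟩ := ih (fun i hi => hf i (Nat.lt_succ_of_lt hi))
    have hk := hf k (Nat.lt_succ_self k)
    generalize hX : (Nat.rec (motive := fun _ => ℕ) 0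
      (fun i ih => Nat.lor (Nat.shiftLeft (f i) (Nat.mul 5 i)) ih) k : ℕ) = X at h1 h2
    have e : (Nat.rec (motive := fun _ => ℕ) 0
      (fun i ih => Nat.lor (Nat.shiftLeft (f i) (Nat.mul 5 i)) ih) (k + 1) : ℕ) =
        (f k <<< (5 * k)) ||| X := by
      rw [← hX]; rfl
    rw [e]
    constructor
    · apply Nat.or_lt_two_pow
      · rw [Nat.shiftLeft_eq]
        calc f k * 2 ^ (5 * k) < 32 * 2 ^ (5 * k) := by
              exact Nat.mul_lt_mul_of_pos_right hk (by positivity)
          _ = 2 ^ (5 * (k + 1)) := by rw [mul_add, pow_add]; norm_num; ring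
      · exact lt_of_lt_of_le h1 (Nat.pow_le_pow_right (by norm_num) (by omega))
    · intro i hi
      have e0 : ∀ Y : ℕ, papp Y i = (Y >>> (5 * i)) % 32 := by
        intro Y
        change (Y >>> (5 * i)) &&& 31 = _
        exact Nat.and_two_pow_sub_one_eq_mod (n := 5) _
      rw [e0]
      rcases Nat.lt_succ_iff_lt_or_eq.1 hi with h | rfl
      · rw [← h2 i h, e0]
        apply Nat.eq_of_testBit_eq
        intro j
        have e32 : 32 = 2 ^ 5 := by norm_num
        rw [e32, Nat.testBit_mod_two_pow, Nat.testBit_mod_two_pow, Nat.testBit_shiftRight,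
          Nat.testBit_shiftRight, Nat.testBit_or, Nat.testBit_shiftLeft]
        by_cases hj : j < 5
        · have : ¬ (5 * k ≤ 5 * i + j) := by omega
          simp [hj, this]
        · simp [hj]
      · apply Nat.eq_of_testBit_eq
        intro j
        have e32 : 32 = 2 ^ 5 := by norm_num
        rw [e32, Nat.testBit_mod_two_pow, Nat.testBit_shiftRight,
          Nat.testBit_or, Nat.testBit_shiftLeft]
        have h3 : X.testBit (5 * i + j) = false :=
          Nat.testBit_eq_false_of_lt (lt_of_lt_of_le h1 (Nat.pow_le_pow_right (by norm_num) (by omega)))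
        by_cases hj : j < 5
        · simp [hj, h3]
        · have h4 : (f i).testBit j = false := by
            apply Nat.testBit_eq_false_of_lt
            exact lt_of_lt_of_le hk (by rw [e32]; exact Nat.pow_le_pow_right (by norm_num) (by omega))
          simp [hj, h4]

theorem papp_pack {f : ℕ → ℕ} (hf : ∀ i < 24, f i < 32) {i : ℕ} (hi : i < 24) :
    papp (pack f) i = f i := (pack_aux f 24 hf).2 i hi

theorem agrees_pack {g : Equiv.Perm GolayPt} {f : ℕ → ℕ}
    (h : ∀ i < 24, toIdx (g (ofIdx i)) = f i) : Agrees g (pack f) := by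
  intro i hi
  rw [papp_pack _ hi, h i hi]
  intro j hj
  rw [← h j hj]
  have := toIdx_lt (g (ofIdx j))
  omega

/-- translation `i ↦ i + 1` -/
def T1 : Equiv.Perm GolayPt := Equiv.optionCongr (Equiv.addRight (1 : ZMod 23))

theorem T1_agrees : Agrees T1 (pack (fun i => if i < 23 then (i + 1) % 23 else i)) := by
  apply agrees_pack
  have : ∀ i < 24, toIdx (T1 (ofIdx i)) = if i < 23 then (i + 1) % 23 else i := by decide +kernel
  exact this

theorem T1_mem : T1 ∈ M24 := by
  rw [T1_agrees.mem_M24_iff]; decide +kernel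

theorem projInv_mem : projInv ∈ M24 := by
  have h : ∃ P, (∀ i < 24, toIdx (projInv (ofIdx i)) = papp P i) ∧ inM24 P = true := by
    refine ⟨pack (fun i => toIdx (projInv (ofIdx i))), agrees_pack (fun i _ => rfl), ?_⟩
    decide +kernel
  obtain ⟨P, h1, h2⟩ := h
  exact (Agrees.mem_M24_iff h1).2 h2

theorem cubeTwist_mem : cubeTwist ∈ M24 := by
  have h : ∃ P, (∀ i < 24, toIdx (cubeTwist (ofIdx i)) = papp P i) ∧ inM24 P = true := by
    refine ⟨pack (fun i => toIdx (cubeTwist (ofIdx i))), agrees_pack (fun i _ => rfl), ?_⟩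
    decide +kernel
  obtain ⟨P, h1, h2⟩ := h
  exact (Agrees.mem_M24_iff h1).2 h2

theorem sqmul_mem (u : (ZMod 23)ˣ) (hu : IsSquare u) : Equiv.optionCongr (Units.mulLeft u) ∈ M24 := by
  have h1 : Agrees (Equiv.optionCongr (Units.mulLeft u))
      (pack (fun i => if i < 23 then (u.1.val * i) % 23 else i)) := by
    apply agrees_pack
    intro i hi
    by_cases h : i < 23
    · have h2 : ofIdx i = some (i : ZMod 23) := by unfold ofIdx; rw [if_neg (by omega)]
      rw [h2, if_pos h]
      change ((u : ZMod 23) * (i : ZMod 23)).val = _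
      rw [ZMod.val_mul, ZMod.val_natCast, Nat.mod_eq_of_lt h]
    · have h2 : i = 23 := by omega
      subst h2
      rfl
  rw [h1.mem_M24_iff]
  obtain ⟨r, rfl⟩ := hu
  have key : ∀ r : ZMod 23, r ≠ 0 →
      inM24 (pack (fun i => if i < 23 then ((r * r).val * i) % 23 else i)) = true := by decide +kernel
  haveI : Fact (Nat.Prime 23) := ⟨by norm_num⟩
  have := key r.1 r.ne_zero
  rw [Units.val_mul]; exact this

end CfsgL.Golay
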