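import Cfsg.Agent.L.Golay.Comp
import Cfsg.Prelude.Def_Sporadic_a
/-!
The Golay code of the Prelude as bit masks.
-/
set_option autoImplicit false
namespace CfsgL.Golay
open Cfsg CfsgL.Comp

/-- index (0..22 for residues, 23 for the extra point) -/
def toIdx (p : GolayPt) : ℕ := Option.elim p 23 (fun x : ZMod 23 => ZMod.val x)

/-- the point with a given index -/
def ofIdx (n : ℕ) : GolayPt := if n = 23 then none else some ((n : ℕ) : ZMod 23)

theorem toIdx_none : toIdx none = 23 := rfl
theorem toIdx_some (x : ZMod 23) : toIdx (some x) = x.val := rfl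

theorem toIdx_lt (p : GolayPt) : toIdx p < 24 := by
  rcases p with _ | x
  · rw [toIdx_none]; norm_num
  · rw [toIdx_some]
    have := ZMod.val_lt x
    omega

theorem ofIdx_toIdx (p : GolayPt) : ofIdx (toIdx p) = p := by
  rcases p with _ | x
  · rfl
  · rw [toIdx_some, ofIdx, if_neg]
    · simp
    · have := ZMod.val_lt x
      omega

theorem toIdx_ofIdx {n : ℕ} (h : n < 24) : toIdx (ofIdx n) = n := by
  unfold ofIdx
  split_ifs with h'
  · rw [toIdx_none, h']
  · rw [toIdx_some, ZMod.val_natCast]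
    apply Nat.mod_eq_of_lt; omega

theorem toIdx_injective : Function.Injective toIdx :=
  Function.LeftInverse.injective ofIdx_toIdx

theorem toIdx_inj {p q : GolayPt} : toIdx p = toIdx q ↔ p = q := toIdx_injective.eq_iff

/-- the points as `Fin 24` -/
def ptEquiv : GolayPt ≃ Fin 24 where
  toFun p := ⟨toIdx p, toIdx_lt p⟩
  invFun n := ofIdx n.1
  left_inv p := ofIdx_toIdx p
  right_inv n := Fin.ext (toIdx_ofIdx n.2)

/-- the binary word with a given mask -/
def wordOf (m : ℕ) : GolayPt → ZMod 2 := fun p => if m.testBit (toIdx p) then 1 else 0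

/-- the set of points with a given mask -/
def mset (m : ℕ) : Finset GolayPt := Finset.univ.filter (fun p => m.testBit (toIdx p) = true)

theorem mem_mset {m : ℕ} {p : GolayPt} : p ∈ mset m ↔ m.testBit (toIdx p) = true := by
  simp [mset]

theorem wordOf_xor (m n : ℕ) : wordOf (m ^^^ n) = wordOf m + wordOf n := by
  funext p
  simp only [wordOf, Nat.testBit_xor, Pi.add_apply]
  cases m.testBit (toIdx p) <;> cases n.testBit (toIdx p) <;> simp <;> rfl

theorem wordOf_zero : wordOf 0 = 0 := by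
  funext p; simp [wordOf]

theorem support₂_wordOf (m : ℕ) : support₂ (wordOf m) = mset m := by
  ext p
  simp [support₂, mset, wordOf]

theorem mset_inj {m n : ℕ} (hm : m < 2 ^ 24) (hn : n < 2 ^ 24) : mset m = mset n ↔ m = n := by
  constructor
  · intro h
    apply Nat.eq_of_testBit_eq
    intro i
    rcases lt_or_ge i 24 with hi | hi
    · have h1 := Finset.ext_iff.1 h (ofIdx i)
      rw [mem_mset, mem_mset, toIdx_ofIdx hi] at h1
      exact Bool.eq_iff_iff.2 h1
    · rw [Nat.testBit_lt_two_pow (lt_of_lt_of_le hm (Nat.pow_le_pow_right (by norm_num) hi)),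
        Nat.testBit_lt_two_pow (lt_of_lt_of_le hn (Nat.pow_le_pow_right (by norm_num) hi))]
  · rintro rfl; rfl

theorem wordOf_inj {m n : ℕ} (hm : m < 2 ^ 24) (hn : n < 2 ^ 24) : wordOf m = wordOf n ↔ m = n := by
  constructor
  · intro h
    rw [← mset_inj hm hn, ← support₂_wordOf, ← support₂_wordOf, h]
  · rintro rfl; rfl

/-- every word comes from a mask -/
theorem exists_wordOf (w : GolayPt → ZMod 2) : ∃ m < 2 ^ 24, wordOf m = w := by
  refine ⟨Nat.ofBits (fun i : Fin 24 => decide (w (ofIdx i.1) ≠ 0)), Nat.ofBits_lt_two_pow _, ?_⟩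
  funext p
  simp only [wordOf]
  rw [Nat.testBit_ofBits_lt _ _ (toIdx_lt p)]
  simp only [ofIdx_toIdx]
  have : ∀ z : ZMod 2, (if decide (z ≠ 0) = true then (1 : ZMod 2) else 0) = z := by decide
  exact this _

theorem exists_mset (s : Finset GolayPt) : ∃ m < 2 ^ 24, mset m = s := by
  obtain ⟨m, hm, h⟩ := exists_wordOf (fun p => if p ∈ s then 1 else 0)
  refine ⟨m, hm, ?_⟩
  rw [← support₂_wordOf, h]
  ext p
  simp [support₂]

theorem card_mset (m : ℕ) : (mset m).card = pop24 m := by
  rw [pop24_eq, popR_eq, mset, Finset.card_filter]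
  rw [← Fin.sum_univ_eq_sum_range (fun i => (m.testBit i).toNat) 24]
  rw [← Equiv.sum_comp ptEquiv]
  apply Finset.sum_congr rfl
  intro p _
  simp only [ptEquiv, Equiv.coe_fn_mk]
  cases m.testBit (toIdx p) <;> simp

/-- xor of the basis words selected by the bits of the argument -/
def encL (l : List ℕ) : ℕ → ℕ :=
  List.rec (motive := fun _ => ℕ → ℕ) (fun _ => 0)
    (fun b _ ih m => Nat.xor (Nat.mul (Nat.mod m 2) b) (ih (Nat.div m 2))) l

theorem encL_nil (m : ℕ) : encL [] m = 0 := rfl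
theorem encL_cons (b : ℕ) (l : List ℕ) (m : ℕ) :
    encL (b :: l) m = (m % 2 * b) ^^^ encL l (m / 2) := rfl

theorem encL_xor (l : List ℕ) (x y : ℕ) : encL l (x ^^^ y) = encL l x ^^^ encL l y := by
  induction l generalizing x y with
  | nil => simp [encL_nil]
  | cons b l ih =>
    rw [encL_cons, encL_cons, encL_cons, Nat.xor_div_two, ih]
    have h : (x ^^^ y) % 2 * b = (x % 2 * b) ^^^ (y % 2 * b) := by
      have h1 : (x ^^^ y) % 2 = (x % 2 + y % 2) % 2 := by
        rw [← Nat.add_mod]; exact Nat.xor_mod_two_eq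
      rw [h1]
      rcases Nat.mod_two_eq_zero_or_one x with hx | hx <;>
        rcases Nat.mod_two_eq_zero_or_one y with hy | hy <;> simp [hx, hy]
    rw [h]
    simp only [Nat.xor_assoc]
    congr 1
    rw [← Nat.xor_assoc, ← Nat.xor_assoc, Nat.xor_comm (y % 2 * b)]

theorem encL_zero (l : List ℕ) : encL l 0 = 0 := by
  induction l with
  | nil => rfl
  | cons b l ih => rw [encL_cons]; simp [ih]

theorem encL_mod (l : List ℕ) (m : ℕ) : encL l (m % 2 ^ l.length) = encL l m := by
  induction l generalizing m with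
  | nil => rfl
  | cons b l ih =>
    rw [encL_cons, encL_cons, ← ih (m / 2), ← ih (m % 2 ^ (b :: l).length / 2)]
    have h1 : m % 2 ^ (b :: l).length % 2 = m % 2 := by
      rw [List.length_cons, pow_succ, mul_comm, Nat.mod_mul_right_mod]
    have h2 : m % 2 ^ (b :: l).length / 2 % 2 ^ l.length = m / 2 % 2 ^ l.length := by
      rw [List.length_cons, pow_succ, mul_comm, Nat.mod_mul_right_div_self, Nat.mod_mod]
    rw [h1, h2]

theorem wordOf_encL_mem (C : Submodule (ZMod 2) (GolayPt → ZMod 2)) (l : List ℕ)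
    (h : ∀ b ∈ l, wordOf b ∈ C) (m : ℕ) : wordOf (encL l m) ∈ C := by
  induction l generalizing m with
  | nil => rw [encL_nil, wordOf_zero]; exact C.zero_mem
  | cons b l ih =>
    rw [encL_cons, wordOf_xor]
    refine C.add_mem ?_ (ih (fun b hb => h b (List.mem_cons_of_mem _ hb)) _)
    rcases Nat.mod_two_eq_zero_or_one m with hx | hx
    · rw [hx, zero_mul, wordOf_zero]; exact C.zero_mem
    · rw [hx, one_mul]; exact h b List.mem_cons_self

theorem encL_lt (l : List ℕ) (n : ℕ) (h : ∀ b ∈ l, b < 2 ^ n) (m : ℕ) : encL l m < 2 ^ n := by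
  induction l generalizing m with
  | nil => rw [encL_nil]; positivity
  | cons b l ih =>
    rw [encL_cons]
    refine Nat.xor_lt_two_pow ?_ (ih (fun b hb => h b (List.mem_cons_of_mem _ hb)) _)
    rcases Nat.mod_two_eq_zero_or_one m with hx | hx
    · rw [hx, zero_mul]; positivity
    · rw [hx, one_mul]; exact h b List.mem_cons_self

/-- the reduced basis of the code -/
def Bas : List ℕ := [0xc75001, 0x49f002, 0xd4b004, 0x6e3008, 0x9b3010, 0xb66020, 0xecc040,
  0x1ed080, 0x3da100, 0x7b4200, 0xb1d400, 0xe3a800]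

/-- systematic encoder -/
def enc (m : ℕ) : ℕ := encL Bas m

/-- membership test -/
def inCode (m : ℕ) : Bool := Nat.beq (enc m) m

theorem enc_xor (x y : ℕ) : enc (x ^^^ y) = enc x ^^^ enc y := encL_xor _ _ _
theorem enc_zero : enc 0 = 0 := encL_zero _
theorem enc_mod (m : ℕ) : enc (m % 4096) = enc m := encL_mod Bas m
theorem enc_lt (m : ℕ) : enc m < 2 ^ 24 := by
  refine encL_lt Bas 24 ?_ m
  intro b hb
  fin_cases hb <;> norm_num

theorem enc_low_aux : allD (fun x => Nat.beq (Nat.mod (enc x) 4096) x) 12 0 = true := by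
  decide +kernel

theorem enc_low {x : ℕ} (hx : x < 4096) : enc x % 4096 = x :=
  Nat.eq_of_beq_eq_true (allD_lt (n := 12) enc_low_aux hx)

theorem enc_inj {x y : ℕ} (hx : x < 4096) (hy : y < 4096) : enc x = enc y ↔ x = y := by
  constructor
  · intro h; rw [← enc_low hx, h, enc_low hy]
  · rintro rfl; rfl

theorem inCode_iff {m : ℕ} : inCode m = true ↔ ∃ x < 4096, m = enc x := by
  constructor
  · intro h
    refine ⟨m % 4096, Nat.mod_lt _ (by norm_num), ?_⟩
    rw [enc_mod]; exact (Nat.eq_of_beq_eq_true h).symm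
  · rintro ⟨x, hx, rfl⟩
    unfold inCode
    rw [natBeq_iff]
    rw [← enc_mod (enc x), enc_low hx]

theorem inCode_enc (m : ℕ) : inCode (enc m) = true := by
  rw [inCode_iff]
  exact ⟨m % 4096, Nat.mod_lt _ (by norm_num), (enc_mod m).symm⟩

theorem inCode_xor {x y : ℕ} (hx : inCode x = true) (hy : inCode y = true) :
    inCode (x ^^^ y) = true := by
  obtain ⟨a, _, rfl⟩ := inCode_iff.1 hx
  obtain ⟨b, _, rfl⟩ := inCode_iff.1 hy
  rw [← enc_xor]; exact inCode_enc _

/-- masks of the words `qrWord t` -/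
def qrL : List ℕ := [0x5335f, 0xa66be, 0x14cd7c, 0x299af8, 0x5335f0, 0x266be1, 0x4cd7c2, 0x19af85,
  0x335f0a, 0x66be14, 0x4d7c29, 0x1af853, 0x35f0a6, 0x6be14c, 0x57c299, 0x2f8533, 0x5f0a66,
  0x3e14cd, 0x7c299a, 0x785335, 0x70a66b, 0x614cd7, 0x4299af]

theorem qrWord_eq : ∀ t : ZMod 23, ∀ p : GolayPt, qrWord t p = wordOf (qrL.getD t.val 0) p := by
  decide +kernel

theorem one_eq : (1 : GolayPt → ZMod 2) = wordOf 0xffffff := by
  funext p
  revert p
  decide +kernel

theorem qr_inCode : ∀ t : ZMod 23, inCode (qrL.getD t.val 0) = true := by decide +kernel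

/-- all 24 generators -/
def genL : List ℕ := qrL ++ [0xffffff]

/-- certificates: the basis words as sums of generators -/
theorem bas_cert : List.map (encL genL) [0x8006a9, 0x118, 0x800499, 0x578, 0x8006ba, 0x800797,
    0x8005cd, 0x7d0, 0x543, 0x65, 0x800663, 0x800625] = Bas := by decide +kernel

theorem genL_mem : ∀ b ∈ genL, wordOf b ∈ golayCode := by
  intro b hb
  unfold genL at hb
  rw [List.mem_append] at hb
  rcases hb with hb | hb
  · have : ∃ t : ZMod 23, qrL.getD t.val 0 = b := by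
      have h : ∀ b ∈ qrL, ∃ t : ZMod 23, qrL.getD t.val 0 = b := by decide +kernel
      exact h b hb
    obtain ⟨t, rfl⟩ := this
    apply Submodule.subset_span
    left
    exact ⟨t, funext (qrWord_eq t)⟩
  · rw [List.mem_singleton] at hb
    rw [hb, ← one_eq]
    apply Submodule.subset_span
    right; rfl

theorem bas_mem : ∀ b ∈ Bas, wordOf b ∈ golayCode := by
  intro b hb
  rw [← bas_cert, List.mem_map] at hb
  obtain ⟨c, _, rfl⟩ := hb
  exact wordOf_encL_mem _ _ genL_mem _

theorem wordOf_enc_mem (x : ℕ) : wordOf (enc x) ∈ golayCode :=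
  wordOf_encL_mem _ _ bas_mem _

/-- the code as a submodule given by the encoder -/
def codeSub : Submodule (ZMod 2) (GolayPt → ZMod 2) where
  carrier := {w | ∃ x, w = wordOf (enc x)}
  zero_mem' := ⟨0, by rw [enc_zero, wordOf_zero]⟩
  add_mem' := by
    rintro _ _ ⟨x, rfl⟩ ⟨y, rfl⟩
    exact ⟨x ^^^ y, by rw [enc_xor, wordOf_xor]⟩
  smul_mem' := by
    rintro c _ ⟨x, rfl⟩
    have h : c = 0 ∨ c = 1 := by revert c; decide
    rcases h with rfl | rfl
    · exact ⟨0, by rw [enc_zero, wordOf_zero, zero_smul]⟩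
    · exact ⟨x, by rw [one_smul]⟩

theorem golayCode_eq : golayCode = codeSub := by
  apply le_antisymm
  · unfold golayCode
    rw [Submodule.span_le]
    rintro w (⟨t, rfl⟩ | hw)
    · refine ⟨qrL.getD t.val 0, ?_⟩
      rw [Nat.eq_of_beq_eq_true (qr_inCode t)]
      exact funext (qrWord_eq t)
    · rw [Set.mem_singleton_iff] at hw
      refine ⟨0xffffff, ?_⟩
      have : enc 0xffffff = 0xffffff := by decide +kernel
      rw [this, hw, one_eq]
  · rintro w ⟨x, rfl⟩
    exact wordOf_enc_mem x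

theorem mem_golayCode {w : GolayPt → ZMod 2} : w ∈ golayCode ↔ ∃ x < 4096, w = wordOf (enc x) := by
  rw [golayCode_eq]
  constructor
  · rintro ⟨x, rfl⟩
    exact ⟨x % 4096, Nat.mod_lt _ (by norm_num), by rw [enc_mod]⟩
  · rintro ⟨x, _, rfl⟩
    exact ⟨x, rfl⟩

theorem wordOf_mem {m : ℕ} (hm : m < 2 ^ 24) : wordOf m ∈ golayCode ↔ inCode m = true := by
  rw [mem_golayCode, inCode_iff]
  constructor
  · rintro ⟨x, hx, h⟩
    exact ⟨x, hx, (wordOf_inj hm (enc_lt x)).1 h⟩
  · rintro ⟨x, hx, rfl⟩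
    exact ⟨x, hx, rfl⟩

theorem mem_supports {s : Finset GolayPt} :
    s ∈ supports (golayCode : Set (GolayPt → ZMod 2)) ↔ ∃ x < 4096, s = mset (enc x) := by
  unfold supports
  constructor
  · rintro ⟨w, hw, rfl⟩
    obtain ⟨x, hx, rfl⟩ := mem_golayCode.1 hw
    exact ⟨x, hx, support₂_wordOf _⟩
  · rintro ⟨x, hx, rfl⟩
    exact ⟨wordOf (enc x), wordOf_enc_mem x, support₂_wordOf _⟩

theorem mset_mem_supports {m : ℕ} (hm : m < 2 ^ 24) :
    mset m ∈ supports (golayCode : Set (GolayPt → ZMod 2)) ↔ inCode m = true := by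
  rw [mem_supports, inCode_iff]
  constructor
  · rintro ⟨x, hx, h⟩
    exact ⟨x, hx, (mset_inj hm (enc_lt x)).1 h⟩
  · rintro ⟨x, hx, rfl⟩
    exact ⟨x, hx, rfl⟩

theorem mem_wordsOfWeight {s : Finset GolayPt} {n : ℕ} :
    s ∈ wordsOfWeight (golayCode : Set (GolayPt → ZMod 2)) n ↔
      ∃ x < 4096, pop24 (enc x) = n ∧ s = mset (enc x) := by
  unfold wordsOfWeight
  rw [Set.mem_ofPred_eq, mem_supports]
  constructor
  · rintro ⟨⟨x, hx, rfl⟩, h⟩
    exact ⟨x, hx, by rw [← card_mset]; exact h, rfl⟩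
  · rintro ⟨x, hx, h, rfl⟩
    exact ⟨⟨x, hx, rfl⟩, by rw [card_mset]; exact h⟩

theorem mset_xor (m n : ℕ) : mset (m ^^^ n) = symmDiff (mset m) (mset n) := by
  ext p
  rw [Finset.mem_symmDiff, mem_mset, mem_mset, mem_mset, Nat.testBit_xor]
  cases m.testBit (toIdx p) <;> cases n.testBit (toIdx p) <;> simp

theorem mset_and (m n : ℕ) : mset (m &&& n) = mset m ∩ mset n := by
  ext p
  rw [Finset.mem_inter, mem_mset, mem_mset, mem_mset, Nat.testBit_and]
  cases m.testBit (toIdx p) <;> cases n.testBit (toIdx p) <;> simp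

theorem mset_or (m n : ℕ) : mset (m ||| n) = mset m ∪ mset n := by
  ext p
  rw [Finset.mem_union, mem_mset, mem_mset, mem_mset, Nat.testBit_or]
  cases m.testBit (toIdx p) <;> cases n.testBit (toIdx p) <;> simp

theorem symmDiff_mem_supports {s t : Finset GolayPt}
    (hs : s ∈ supports (golayCode : Set (GolayPt → ZMod 2)))
    (ht : t ∈ supports (golayCode : Set (GolayPt → ZMod 2))) :
    symmDiff s t ∈ supports (golayCode : Set (GolayPt → ZMod 2)) := by
  obtain ⟨x, hx, rfl⟩ := mem_supports.1 hs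
  obtain ⟨y, hy, rfl⟩ := mem_supports.1 ht
  rw [← mset_xor, ← enc_xor, ← enc_mod]
  exact mem_supports.2 ⟨_, Nat.mod_lt _ (by norm_num), rfl⟩

theorem univ_mem_supports : (Finset.univ : Finset GolayPt) ∈
    supports (golayCode : Set (GolayPt → ZMod 2)) := by
  refine ⟨1, ?_, ?_⟩
  · apply Submodule.subset_span; right; rfl
  · ext p; simp [support₂]

theorem compl_mem_supports {s : Finset GolayPt}
    (hs : s ∈ supports (golayCode : Set (GolayPt → ZMod 2))) :
    sᶜ ∈ supports (golayCode : Set (GolayPt → ZMod 2)) := by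
  have := symmDiff_mem_supports univ_mem_supports hs
  rwa [show symmDiff (Finset.univ : Finset GolayPt) s = sᶜ from top_symmDiff s] at this

/-- the weights of the code -/
def goodWt (c : ℕ) : Bool := force c (fun c => (Nat.beq c 0).or ((Nat.beq c 8).or ((Nat.beq c 12).or
  ((Nat.beq c 16).or (Nat.beq c 24)))))

theorem weights_aux : allD (fun x => goodWt (force (enc x) pop24)) 12 0 = true := by decide +kernel

theorem enc_weight {x : ℕ} : pop24 (enc x) = 0 ∨ pop24 (enc x) = 8 ∨ pop24 (enc x) = 12 ∨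
    pop24 (enc x) = 16 ∨ pop24 (enc x) = 24 := by
  have h := allD_lt (n := 12) weights_aux (x := x % 4096) (Nat.mod_lt _ (by norm_num))
  simp only [force_eq, goodWt, Bool.or_eq_true, natBeq_iff, enc_mod] at h
  exact h

theorem card_of_mem_supports {s : Finset GolayPt}
    (hs : s ∈ supports (golayCode : Set (GolayPt → ZMod 2))) :
    s.card = 0 ∨ s.card = 8 ∨ s.card = 12 ∨ s.card = 16 ∨ s.card = 24 := by
  obtain ⟨x, hx, rfl⟩ := mem_supports.1 hs
  rw [card_mset]; exact enc_weight

end CfsgL.Golay
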