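import Cfsg.Agent.L.Golay.ChainData
/-!
Order of `M24` and transitivity properties from the explicit stabiliser chain.
-/
set_option autoImplicit false
namespace CfsgL.Golay
open Cfsg CfsgL.Comp
open scoped Pointwise

/-- the entries of `l` are permutations in `M24` fixing the points `fx` -/
def trOK (fx : List ℕ) (l : List (ℕ × ℕ)) : Bool :=
  l.all (fun x => Bool.and (Bool.and (permOK x.1 x.2) (inM24 x.1)) (fx.all (fun i => Nat.beq (papp x.1 i) i)))

/-- the images of `b` under the entries cover all indices `< 24` with property `f` -/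
def trCov (b : ℕ) (f : ℕ → Bool) (l : List (ℕ × ℕ)) : Bool :=
  allR (fun q => Bool.or (Bool.not (f q)) (l.any (fun x => Nat.beq (papp x.1 b) q))) 24

theorem tr_exists {fx : List ℕ} {l : List (ℕ × ℕ)} {b : ℕ} {f : ℕ → Bool}
    (h1 : trOK fx l = true) (h2 : trCov b f l = true) (hb : b < 24) (q : GolayPt)
    (hq : f (toIdx q) = true) :
    ∃ g ∈ M24, (∀ i ∈ fx, ∀ p, toIdx p = i → g p = p) ∧ g (ofIdx b) = q := by
  unfold trCov at h2
  rw [allR_iff] at h2
  have h3 := h2 (toIdx q) (toIdx_lt q)
  rw [hq] at h3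
  simp only [Bool.not_true, Bool.false_or, List.any_eq_true, natBeq_iff] at h3
  obtain ⟨x, hx, h3⟩ := h3
  unfold trOK at h1
  rw [List.all_eq_true] at h1
  have h4 := h1 x hx
  simp only [Bool.and_eq_true, List.all_eq_true, natBeq_iff] at h4
  obtain ⟨⟨h5, h6⟩, h7⟩ := h4
  refine ⟨toPerm x.1 x.2 h5, toPerm_mem_M24 h5 h6, ?_, ?_⟩
  · rintro i hi p rfl
    rw [← toIdx_inj, toIdx_toPerm]
    exact h7 _ hi
  · rw [← toIdx_inj, toIdx_toPerm, toIdx_ofIdx hb, h3]

theorem trOK0 : trOK [] tr0 = true := by decide +kernel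
theorem trOK1 : trOK [23] tr1 = true := by decide +kernel
theorem trOK2 : trOK [23, 0] tr2 = true := by decide +kernel
theorem trOK3 : trOK [23, 0, 1] tr3 = true := by decide +kernel
theorem trOK4 : trOK [23, 0, 1, 2] tr4 = true := by decide +kernel
theorem trOK5 : trOK [23, 0, 1, 2, 3] tr5 = true := by decide +kernel
theorem trOK6 : trOK [23, 0, 1, 2, 3, 5] tr6 = true := by decide +kernel

/-- not one of the listed indices -/
def notIn (l : List ℕ) (q : ℕ) : Bool := l.all (fun i => Bool.not (Nat.beq i q))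

theorem trCov0 : trCov 23 (notIn []) tr0 = true := by decide +kernel
theorem trCov1 : trCov 0 (notIn [23]) tr1 = true := by decide +kernel
theorem trCov2 : trCov 1 (notIn [23, 0]) tr2 = true := by decide +kernel
theorem trCov3 : trCov 2 (notIn [23, 0, 1]) tr3 = true := by decide +kernel
theorem trCov4 : trCov 3 (notIn [23, 0, 1, 2]) tr4 = true := by decide +kernel
theorem trCov5 : trCov 5 (fun q => (Nat.beq q 5).or ((Nat.beq q 14).or (Nat.beq q 17))) tr5 = true := by
  decide +kernel
theorem trCov6 : trCov 4 (notIn [23, 0, 1, 2, 3, 5, 14, 17]) tr6 = true := by decide +kernel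

end CfsgL.Golay
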