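import Mathlib
/-!
Kernel-friendly bit computations: dyadic quantifiers/counting, popcount, packed permutations.
Everything is written with raw `Nat` functions and `Nat.rec`/`List.rec` so that `decide +kernel` is fast.
-/
set_option autoImplicit false
namespace CfsgL.Comp

/-- dyadic universal quantifier over `[b*2^n, (b+1)*2^n)` -/
def allD (f : ℕ → Bool) (n : ℕ) : ℕ → Bool :=
  Nat.rec (motive := fun _ => ℕ → Bool) (fun b => f b)
    (fun _ ih b => Bool.and (ih (Nat.mul 2 b)) (ih (Nat.succ (Nat.mul 2 b)))) n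

/-- dyadic counting over `[b*2^n, (b+1)*2^n)` -/
def cntD (f : ℕ → Bool) (n : ℕ) : ℕ → ℕ :=
  Nat.rec (motive := fun _ => ℕ → ℕ) (fun b => Bool.toNat (f b))
    (fun _ ih b => Nat.add (ih (Nat.mul 2 b)) (ih (Nat.succ (Nat.mul 2 b)))) n

theorem allD_zero (f : ℕ → Bool) (b : ℕ) : allD f 0 b = f b := rfl
theorem allD_succ (f : ℕ → Bool) (n b : ℕ) :
    allD f (n + 1) b = (allD f n (2 * b) && allD f n (2 * b + 1)) := rfl
theorem cntD_zero (f : ℕ → Bool) (b : ℕ) : cntD f 0 b = (f b).toNat := rfl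
theorem cntD_succ (f : ℕ → Bool) (n b : ℕ) :
    cntD f (n + 1) b = cntD f n (2 * b) + cntD f n (2 * b + 1) := rfl

theorem allD_iff (f : ℕ → Bool) (n b : ℕ) :
    allD f n b = true ↔ ∀ x, b * 2 ^ n ≤ x → x < (b + 1) * 2 ^ n → f x = true := by
  induction n generalizing b with
  | zero =>
    rw [allD_zero]
    constructor
    · intro h x h1 h2
      have : x = b := by omega
      rw [this]; exact h
    · intro h; exact h b (by omega) (by omega)
  | succ n ih =>
    rw [allD_succ, Bool.and_eq_true, ih, ih]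
    have e1 : 2 * b * 2 ^ n = b * 2 ^ (n + 1) := by ring
    have e2 : (2 * b + 1) * 2 ^ n = b * 2 ^ (n + 1) + 2 ^ n := by ring
    have e3 : (2 * b + 1 + 1) * 2 ^ n = (b + 1) * 2 ^ (n + 1) := by ring
    rw [e1, e2, e3]
    have e4 : (b + 1) * 2 ^ (n + 1) = b * 2 ^ (n + 1) + 2 ^ n + 2 ^ n := by ring
    constructor
    · rintro ⟨h1, h2⟩ x hx1 hx2
      rcases lt_or_ge x (b * 2 ^ (n + 1) + 2 ^ n) with h | h
      · exact h1 x hx1 h
      · exact h2 x h hx2
    · intro h
      refine ⟨fun x hx1 hx2 => h x hx1 (by omega), fun x hx1 hx2 => h x (by omega) hx2⟩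

theorem allD_lt {f : ℕ → Bool} {n : ℕ} (h : allD f n 0 = true) {x : ℕ} (hx : x < 2 ^ n) :
    f x = true :=
  (allD_iff f n 0).1 h x (by omega) (by omega)

theorem cntD_eq (f : ℕ → Bool) (n b : ℕ) :
    cntD f n b = ((Finset.Ico (b * 2 ^ n) ((b + 1) * 2 ^ n)).filter (fun x => f x = true)).card := by
  induction n generalizing b with
  | zero =>
    rw [cntD_zero]
    have : Finset.Ico (b * 2 ^ 0) ((b + 1) * 2 ^ 0) = {b} := by
      ext x; simp
    rw [this, Finset.filter_singleton]
    cases h : f b <;> simp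
  | succ n ih =>
    rw [cntD_succ, ih, ih]
    have e1 : 2 * b * 2 ^ n = b * 2 ^ (n + 1) := by ring
    have e2 : (2 * b + 1) * 2 ^ n = b * 2 ^ (n + 1) + 2 ^ n := by ring
    have e3 : (2 * b + 1 + 1) * 2 ^ n = (b + 1) * 2 ^ (n + 1) := by ring
    rw [e1, e2, e3]
    have e4 : (b + 1) * 2 ^ (n + 1) = b * 2 ^ (n + 1) + 2 ^ n + 2 ^ n := by ring
    have hp : 0 < 2 ^ n := by positivity
    rw [← Finset.card_union_of_disjoint, ← Finset.filter_union,
      Finset.Ico_union_Ico_eq_Ico (Nat.le_add_right _ _) (by rw [e4]; exact Nat.le_add_right _ _)]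
    refine Finset.disjoint_filter_filter ?_
    rw [Finset.disjoint_left]
    intro x hx hx'
    rw [Finset.mem_Ico] at hx hx'
    omega

theorem cntD_zero_eq (f : ℕ → Bool) (n : ℕ) :
    cntD f n 0 = ((Finset.range (2 ^ n)).filter (fun x => f x = true)).card := by
  rw [cntD_eq, Finset.range_eq_Ico]; simp

/-- strict evaluation of a natural number argument (for the kernel) -/
def force {α : Type} (n : ℕ) (k : ℕ → α) : α :=
  Nat.rec (motive := fun _ => α) (k 0) (fun m _ => k (Nat.succ m)) n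

theorem force_eq {α : Type} (n : ℕ) (k : ℕ → α) : force n k = k n := by
  cases n <;> rfl

/-- number of ones among the `k` lowest bits -/
def popR (k : ℕ) : ℕ → ℕ :=
  Nat.rec (motive := fun _ => ℕ → ℕ) (fun _ => 0)
    (fun _ ih m => Nat.add (Nat.mod m 2) (ih (Nat.div m 2))) k

theorem popR_zero (m : ℕ) : popR 0 m = 0 := rfl
theorem popR_succ (k m : ℕ) : popR (k + 1) m = m % 2 + popR k (m / 2) := rfl

theorem popR_eq (k m : ℕ) : popR k m = ∑ i ∈ Finset.range k, (m.testBit i).toNat := by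
  induction k generalizing m with
  | zero => simp [popR_zero]
  | succ k ih =>
    rw [popR_succ, ih, Finset.sum_range_succ', add_comm]
    congr 1
    · apply Finset.sum_congr rfl
      intro i _
      rw [Nat.testBit_succ]
    · rw [Nat.testBit_zero]
      rcases Nat.mod_two_eq_zero_or_one m with h | h <;> simp [h]

/-- nibble popcount by table -/
def pop4 (m : ℕ) : ℕ := Nat.land (Nat.shiftRight 0x4332322132212110 (Nat.mul 4 (Nat.mod m 16))) 15

theorem pop4_eq (m : ℕ) : pop4 m = popR 4 m := by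
  have h : popR 4 m = popR 4 (m % 16) := by
    rw [popR_eq, popR_eq]
    apply Finset.sum_congr rfl
    intro i hi
    rw [Finset.mem_range] at hi
    have : (16 : ℕ) = 2 ^ 4 := by norm_num
    rw [this, Nat.testBit_mod_two_pow]
    simp [hi]
  rw [h]
  have hm : m % 16 < 16 := Nat.mod_lt _ (by norm_num)
  have h2 : pop4 m = pop4 (m % 16) := by
    unfold pop4; rw [show Nat.mod m 16 = Nat.mod (m % 16) 16 from (Nat.mod_mod m 16).symm]
  rw [h2]
  generalize m % 16 = x at hm
  have : ∀ x < 16, pop4 x = popR 4 x := by decide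
  exact this x hm

/-- popcount of a 24-bit number -/
def pop24 (m : ℕ) : ℕ :=
  Nat.add (pop4 m) (Nat.add (pop4 (Nat.shiftRight m 4)) (Nat.add (pop4 (Nat.shiftRight m 8))
    (Nat.add (pop4 (Nat.shiftRight m 12)) (Nat.add (pop4 (Nat.shiftRight m 16)) (pop4 (Nat.shiftRight m 20))))))

theorem popR_add (k l m : ℕ) : popR (k + l) m = popR k m + popR l (m >>> k) := by
  rw [popR_eq, popR_eq, popR_eq, Finset.sum_range_add]
  congr 1
  apply Finset.sum_congr rfl
  intro i _
  rw [Nat.testBit_shiftRight]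

theorem pop24_eq (m : ℕ) : pop24 m = popR 24 m := by
  have e : popR 24 m = popR (4 + (4 + (4 + (4 + (4 + 4))))) m := rfl
  rw [e, popR_add, popR_add, popR_add, popR_add, popR_add]
  simp only [← Nat.shiftRight_add, ← pop4_eq]
  rfl

theorem natBeq_iff {a b : ℕ} : Nat.beq a b = true ↔ a = b :=
  ⟨Nat.eq_of_beq_eq_true, fun h => by rw [h]; exact Nat.beq_refl b⟩

theorem natBle_iff {a b : ℕ} : Nat.ble a b = true ↔ a ≤ b :=
  ⟨Nat.le_of_ble_eq_true, Nat.ble_eq_true_of_le⟩

end CfsgL.Comp
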