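import Cfsg.Agent.L.Golay.Octads
/-!
Straight-line programs of packed permutations, and generation of `M24`.
-/
set_option autoImplicit false
namespace CfsgL.Golay
open Cfsg CfsgL.Comp
open scoped Pointwise

/-- product of packed permutations -/
def pmul (P Q : ℕ) : ℕ := pack (fun i => papp P (papp Q i))

/-- find the preimage of `j` -/
def pfind (P j : ℕ) : ℕ :=
  Nat.rec (motive := fun _ => ℕ) 0 (fun i ih => cond (Nat.beq (papp P i) j) i ih) 24

/-- inverse of a packed permutation -/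
def pinvP (P : ℕ) : ℕ := pack (pfind P)

/-- the identity, packed -/
def pone : ℕ := pack (fun i => i)

theorem agrees_one : Agrees 1 pone := by
  apply agrees_pack
  intro i hi
  exact toIdx_ofIdx hi

theorem Agrees.mul {g h : Equiv.Perm GolayPt} {P Q : ℕ} (hg : Agrees g P) (hh : Agrees h Q) :
    Agrees (g * h) (pmul P Q) := by
  apply agrees_pack
  intro i hi
  rw [Equiv.Perm.mul_apply, hg.apply, hh i hi]

theorem pfind_aux (P j i0 k : ℕ) (hi : i0 < k) (h : papp P i0 = j)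
    (hinj : ∀ i < k, papp P i = j → i = i0) :
    Nat.rec (motive := fun _ => ℕ) 0 (fun i ih => cond (Nat.beq (papp P i) j) i ih) k = i0 := by
  induction k with
  | zero => omega
  | succ k ih =>
    simp only
    by_cases hk : papp P k = j
    · rw [natBeq_iff.2 hk, cond_true]
      exact hinj k (Nat.lt_succ_self k) hk
    · have : Nat.beq (papp P k) j = false := by
        rw [← Bool.not_eq_true, natBeq_iff]; exact hk
      rw [this, cond_false]
      have hne : i0 ≠ k := by rintro rfl; exact hk h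
      exact ih (by omega) (fun i hi' h' => hinj i (Nat.lt_succ_of_lt hi') h')

theorem Agrees.inv {g : Equiv.Perm GolayPt} {P : ℕ} (hg : Agrees g P) :
    Agrees g⁻¹ (pinvP P) := by
  apply agrees_pack
  intro i hi
  symm
  refine pfind_aux P i _ 24 (toIdx_lt _) ?_ ?_
  · have : g (g⁻¹ (ofIdx i)) = ofIdx i := by simp
    rw [← hg.apply, this, toIdx_ofIdx hi]
  · intro k hk h'
    have h1 := hg k hk
    rw [h'] at h1
    have h2 : g (ofIdx k) = ofIdx i := by rw [← toIdx_inj, h1, toIdx_ofIdx hi]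
    have h3 : g⁻¹ (ofIdx i) = ofIdx k := by rw [Equiv.Perm.inv_eq_iff_eq, h2]
    rw [h3, toIdx_ofIdx hk]

/-- one instruction: `(0, i, j)` pushes `P_i P_j`, `(1, i, j)` pushes `P_i⁻¹ P_j` -/
def slpStep (L : List ℕ) (c : ℕ × ℕ × ℕ) : List ℕ :=
  force (cond (Nat.beq c.1 0) (pmul (L.getD c.2.1 pone) (L.getD c.2.2 pone))
    (pmul (pinvP (L.getD c.2.1 pone)) (L.getD c.2.2 pone))) (fun P => P :: L)

/-- run a program -/
def slp (L : List ℕ) (p : List (ℕ × ℕ × ℕ)) : List ℕ := p.foldl slpStep L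

/-- `P` represents an element of `H` -/
def InH (H : Subgroup (Equiv.Perm GolayPt)) (P : ℕ) : Prop := ∃ g ∈ H, Agrees g P

theorem inH_getD {H : Subgroup (Equiv.Perm GolayPt)} {L : List ℕ} (h : ∀ P ∈ L, InH H P) (i : ℕ) :
    InH H (L.getD i pone) := by
  by_cases hi : i < L.length
  · rw [List.getD_eq_getElem _ _ hi]
    exact h _ (List.getElem_mem hi)
  · rw [List.getD_eq_default _ _ (by omega)]
    exact ⟨1, H.one_mem, agrees_one⟩

theorem inH_slpStep {H : Subgroup (Equiv.Perm GolayPt)} {L : List ℕ} (h : ∀ P ∈ L, InH H P)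
    (c : ℕ × ℕ × ℕ) : ∀ P ∈ slpStep L c, InH H P := by
  unfold slpStep
  rw [force_eq]
  intro P hP
  rcases List.mem_cons.1 hP with rfl | hP
  · obtain ⟨g1, hg1, h1⟩ := inH_getD h c.2.1
    obtain ⟨g2, hg2, h2⟩ := inH_getD h c.2.2
    cases Nat.beq c.1 0
    · exact ⟨g1⁻¹ * g2, H.mul_mem (H.inv_mem hg1) hg2, h1.inv.mul h2⟩
    · exact ⟨g1 * g2, H.mul_mem hg1 hg2, h1.mul h2⟩
  · exact h P hP

theorem inH_slp {H : Subgroup (Equiv.Perm GolayPt)} (p : List (ℕ × ℕ × ℕ)) {L : List ℕ}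
    (h : ∀ P ∈ L, InH H P) : ∀ P ∈ slp L p, InH H P := by
  induction p generalizing L with
  | nil => exact h
  | cons c p ih => exact ih (inH_slpStep h c)

/-- the images of `b` under those entries of `l` which fix the points `fx` cover `f` -/
def covH (fx : List ℕ) (b : ℕ) (f : ℕ → Bool) (l : List ℕ) : Bool :=
  allR (fun q => Bool.or (Bool.not (f q)) (l.any (fun P => Bool.and (Nat.beq (papp P b) q)
    (fx.all (fun i => Nat.beq (papp P i) i))))) 24

theorem covH_exists {H : Subgroup (Equiv.Perm GolayPt)} {fx : List ℕ} {l : List ℕ} {b : ℕ}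
    {f : ℕ → Bool} (h0 : ∀ P ∈ l, InH H P) (h2 : covH fx b f l = true) (hb : b < 24)
    (hfx : ∀ i ∈ fx, i < 24)
    (q : GolayPt) (hq : f (toIdx q) = true) :
    ∃ g ∈ H, (∀ i ∈ fx, ∀ p, toIdx p = i → g p = p) ∧ g (ofIdx b) = q := by
  unfold covH at h2
  rw [allR_iff] at h2
  have h3 := h2 (toIdx q) (toIdx_lt q)
  rw [hq] at h3
  simp only [Bool.not_true, Bool.false_or, List.any_eq_true, natBeq_iff, Bool.and_eq_true,
    List.all_eq_true] at h3
  obtain ⟨P, hP, h3, h4⟩ := h3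
  obtain ⟨g, hg, h5⟩ := h0 P hP
  refine ⟨g, hg, ?_, ?_⟩
  · rintro i hi p rfl
    rw [← toIdx_inj, h5.apply]
    exact h4 _ hi
  · rw [← toIdx_inj, h5 b hb, h3]

/-- chain step for an arbitrary subgroup -/
theorem gen_stepH (H : Subgroup (Equiv.Perm GolayPt)) (hH : H ≤ M24) (L : List GolayPt) (b : GolayPt)
    (h1 : ∀ g ∈ fx L, ∃ u ∈ H, (∀ p ∈ L, u p = p) ∧ u b = g b) (h2 : fx (b :: L) ≤ H) :
    fx L ≤ H := by
  intro g hg
  obtain ⟨u, hu, hup, hub⟩ := h1 g hg
  have h3 : u⁻¹ * g ∈ fx (b :: L) := by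
    rw [← fx_cons, Subgroup.mem_inf]
    refine ⟨(fx L).mul_mem ((fx L).inv_mem ⟨hH hu, hup⟩) hg, ?_⟩
    rw [MulAction.mem_stabilizer_iff]
    change u⁻¹ (g b) = b
    rw [← hub]; simp
  have := H.mul_mem hu (h2 h3)
  rwa [mul_inv_cancel_left] at this

/-- a subgroup given by a list of packed elements realising the whole stabiliser chain is `M24` -/
theorem eq_M24_of_cov (H : Subgroup (Equiv.Perm GolayPt)) (hH : H ≤ M24) (l : List ℕ)
    (hl : ∀ P ∈ l, InH H P)
    (hz : covH [] 23 (notIn []) l = true) (h1 : covH [23] 0 (notIn [23]) l = true)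
    (h2 : covH [23, 0] 1 (notIn [23, 0]) l = true)
    (h3 : covH [23, 0, 1] 2 (notIn [23, 0, 1]) l = true)
    (h4 : covH [23, 0, 1, 2] 3 (notIn [23, 0, 1, 2]) l = true)
    (h5 : covH [23, 0, 1, 2, 3] 5 (fun q => (Nat.beq q 5).or ((Nat.beq q 14).or (Nat.beq q 17))) l
      = true)
    (h6 : covH [23, 0, 1, 2, 3, 5] 4 (notIn [23, 0, 1, 2, 3, 5, 14, 17]) l = true) : H = M24 := by
  apply le_antisymm hH
  have s6 : fx [bp 5, bp 3, bp 2, bp 1, bp 0, bp 23] ≤ H := by
    refine gen_stepH H hH _ (bp 4) ?_ (by rw [fx_base_trivial]; exact bot_le)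
    intro g hg
    have key : ∀ q : GolayPt, q ∉ mset 0x82402f →
        notIn [23, 0, 1, 2, 3, 5, 14, 17] (toIdx q) = true := by decide +kernel
    obtain ⟨u, hu, e1, e2⟩ := covH_exists hl h6 (by norm_num) (by decide) (g (bp 4))
      (key _ (fx6_range hg))
    refine ⟨u, hu, fun p hp => e1 (toIdx p) ?_ p rfl, e2⟩
    have key : ∀ p ∈ [bp 5, bp 3, bp 2, bp 1, bp 0, bp 23], toIdx p ∈ [23, 0, 1, 2, 3, 5] := by
      decide +kernel
    exact key p hp
  have s5 : fx [bp 3, bp 2, bp 1, bp 0, bp 23] ≤ H := by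
    refine gen_stepH H hH _ (bp 5) ?_ s6
    intro g hg
    have key : ∀ q : GolayPt, q ∈ mset 0x24020 →
        (fun q => (Nat.beq q 5).or ((Nat.beq q 14).or (Nat.beq q 17))) (toIdx q) = true := by
      decide +kernel
    obtain ⟨u, hu, e1, e2⟩ := covH_exists hl h5 (by norm_num) (by decide) (g (bp 5))
      (key _ (fx5_range hg))
    refine ⟨u, hu, fun p hp => e1 (toIdx p) ?_ p rfl, e2⟩
    have key : ∀ p ∈ [bp 3, bp 2, bp 1, bp 0, bp 23], toIdx p ∈ [23, 0, 1, 2, 3] := by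
      decide +kernel
    exact key p hp
  have s4 : fx [bp 2, bp 1, bp 0, bp 23] ≤ H := by
    refine gen_stepH H hH _ (bp 3) ?_ s5
    intro g hg
    have h0 := fx_ne hg (b := bp 3) (by decide +kernel)
    have key : ∀ q : GolayPt, q ∉ [bp 2, bp 1, bp 0, bp 23] → notIn [23, 0, 1, 2] (toIdx q) = true := by
      decide +kernel
    obtain ⟨u, hu, e1, e2⟩ := covH_exists hl h4 (by norm_num) (by decide) (g (bp 3)) (key _ h0)
    refine ⟨u, hu, fun p hp => e1 (toIdx p) ?_ p rfl, e2⟩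
    have key : ∀ p ∈ [bp 2, bp 1, bp 0, bp 23], toIdx p ∈ [23, 0, 1, 2] := by decide +kernel
    exact key p hp
  have s3 : fx [bp 1, bp 0, bp 23] ≤ H := by
    refine gen_stepH H hH _ (bp 2) ?_ s4
    intro g hg
    have h0 := fx_ne hg (b := bp 2) (by decide +kernel)
    have key : ∀ q : GolayPt, q ∉ [bp 1, bp 0, bp 23] → notIn [23, 0, 1] (toIdx q) = true := by
      decide +kernel
    obtain ⟨u, hu, e1, e2⟩ := covH_exists hl h3 (by norm_num) (by decide) (g (bp 2)) (key _ h0)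
    refine ⟨u, hu, fun p hp => e1 (toIdx p) ?_ p rfl, e2⟩
    have key : ∀ p ∈ [bp 1, bp 0, bp 23], toIdx p ∈ [23, 0, 1] := by decide +kernel
    exact key p hp
  have s2 : fx [bp 0, bp 23] ≤ H := by
    refine gen_stepH H hH _ (bp 1) ?_ s3
    intro g hg
    have h0 := fx_ne hg (b := bp 1) (by decide +kernel)
    have key : ∀ q : GolayPt, q ∉ [bp 0, bp 23] → notIn [23, 0] (toIdx q) = true := by
      decide +kernel
    obtain ⟨u, hu, e1, e2⟩ := covH_exists hl h2 (by norm_num) (by decide) (g (bp 1)) (key _ h0)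
    refine ⟨u, hu, fun p hp => e1 (toIdx p) ?_ p rfl, e2⟩
    have key : ∀ p ∈ [bp 0, bp 23], toIdx p ∈ [23, 0] := by decide +kernel
    exact key p hp
  have s1 : fx [bp 23] ≤ H := by
    refine gen_stepH H hH _ (bp 0) ?_ s2
    intro g hg
    have h0 := fx_ne hg (b := bp 0) (by decide +kernel)
    have key : ∀ q : GolayPt, q ∉ [bp 23] → notIn [23] (toIdx q) = true := by decide +kernel
    obtain ⟨u, hu, e1, e2⟩ := covH_exists hl h1 (by norm_num) (by decide) (g (bp 0)) (key _ h0)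
    refine ⟨u, hu, fun p hp => e1 (toIdx p) ?_ p rfl, e2⟩
    have key : ∀ p ∈ [bp 23], toIdx p ∈ [23] := by decide +kernel
    exact key p hp
  rw [← fx_nil]
  refine gen_stepH H hH _ (bp 23) ?_ s1
  intro g hg
  have key : ∀ q : GolayPt, notIn [] (toIdx q) = true := by decide +kernel
  obtain ⟨u, hu, e1, e2⟩ := covH_exists hl hz (by norm_num) (by decide) (g (bp 23)) (key _)
  exact ⟨u, hu, by simp, e2⟩

/-- a straight-line program over `[T1, projInv, cubeTwist]` producing a full stabiliser chain -/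
def progG : List (ℕ × ℕ × ℕ) := [(0, 2, 2), (0, 3, 0), (0, 4, 0), (0, 5, 3), (0, 0, 0), (0, 7, 1), (0, 8, 1), (0, 3, 1), (0, 10, 2), (0, 5, 2), (0, 12, 3), (0, 13, 3), (0, 8, 3), (0, 15, 4), (0, 10, 4), (0, 17, 4), (0, 18, 4), (0, 13, 3), (0, 20, 3), (0, 15, 3), (0, 22, 4), (0, 23, 4), (0, 24, 3), (0, 25, 3), (0, 10, 10), (1, 8, 0), (1, 25, 0), (0, 0, 0), (0, 1, 0), (0, 2, 0), (0, 3, 32), (0, 4, 30), (0, 5, 29), (0, 35, 2), (0, 7, 3), (0, 37, 3), (0, 9, 4), (0, 39, 4), (0, 11, 4), (0, 41, 4), (0, 42, 4), (0, 43, 3), (0, 15, 4), (0, 16, 3), (0, 46, 1), (0, 18, 1), (0, 48, 1), (0, 48, 49), (0, 44, 0), (0, 1, 0), (0, 46, 1), (0, 53, 2), (0, 4, 2), (0, 55, 3), (0, 27, 4), (0, 57, 4), (0, 29, 5), (0, 53, 5), (0, 31, 6), (0, 55, 6), (0, 62, 7), (0, 57, 7), (0, 64, 7), (0, 59, 7), (0, 16, 7), (0, 67, 8), (0, 68, 8), (0, 19, 8), (0, 64, 9), (0, 65, 7), (1, 45, 71), (1, 8, 0), (1, 58, 0), (1, 72, 0), (0, 0, 0), (0, 48, 1), (0, 49, 1), (0, 50,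 1), (0, 4, 1), (0, 52, 2), (0, 6, 2), (0, 54, 3), (0, 8, 3), (0, 56, 4), (0, 10, 3), (0, 58, 4), (0, 12, 4), (0, 60, 5), (0, 61, 4), (0, 62, 2), (0, 16, 2), (0, 17, 2), (0, 65, 2), (0, 22, 45), (1, 79, 0), (1, 55, 0), (1, 4, 0), (0, 0, 70), (0, 1, 69), (0, 2, 69), (0, 73, 3), (0, 74, 3), (0, 75, 2), (0, 76, 1), (0, 7, 2), (0, 8, 2), (1, 102, 107), (1, 56, 0), (1, 105, 0), (1, 26, 0), (1, 4, 0), (0, 0, 83), (0, 1, 83), (0, 2, 16), (0, 3, 11), (0, 88, 1), (1, 102, 116), (1, 106, 0), (1, 85, 0), (1, 44, 0), (1, 15, 0), (0, 0, 0), (1, 28, 5), (1, 119, 0), (1, 122, 0), (1, 43, 0), (1, 5, 0), (0, 0, 16), (0, 130, 5), (1, 0, 115), (1, 125, 0), (1, 133, 0), (1, 105, 0), (1, 12, 0), (0, 0, 23), (0, 1, 8), (0, 2, 8), (0, 8, 139), (1, 0, 90), (1, 73, 0), (1, 142, 0), (1, 54, 0), (1, 42, 0), (1, 21, 0), (0, 0, 33), (0, 1, 18), (0, 2, 18), (0, 3, 13), (0, 4, 13), (0, 5, 13), (0, 6, 13)]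

/-- the packed generators -/
def gensG : List ℕ := [pack (fun i => toIdx (T1 (ofIdx i))), pack (fun i => toIdx (projInv (ofIdx i))),
  pack (fun i => toIdx (cubeTwistFun (ofIdx i)))]

/-- literal packed generators -/
def gensL : List ℕ := [0xb82d5a4e5183dcd62d4941cc520c41, 0x5883388a1c8f5140b46cd317aed7, 0xbba8ab116d7c52899d90286a219a40]

theorem gensL_eq : gensG = gensL := by decide +kernel

/-- all the produced elements -/
def allG : List ℕ := pone :: slp gensL progG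

theorem closure_gens : Subgroup.closure {T1, projInv, cubeTwist} = M24 := by
  have hle : Subgroup.closure {T1, projInv, cubeTwist} ≤ M24 := by
    rw [Subgroup.closure_le]
    intro g hg
    simp only [Set.mem_insert_iff, Set.mem_singleton_iff] at hg
    rcases hg with rfl | rfl | rfl
    · exact T1_mem
    · exact projInv_mem
    · exact cubeTwist_mem
  have hl : ∀ P ∈ allG, InH (Subgroup.closure {T1, projInv, cubeTwist}) P := by
    intro P hP
    rcases List.mem_cons.1 hP with rfl | hP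
    · exact ⟨1, one_mem _, agrees_one⟩
    refine inH_slp progG (L := gensL) ?_ P hP
    intro P hP
    rw [← gensL_eq] at hP
    simp only [gensG, List.mem_cons, List.not_mem_nil, or_false] at hP
    rcases hP with rfl | rfl | rfl
    · exact ⟨T1, Subgroup.subset_closure (by simp), agrees_pack (fun i _ => rfl)⟩
    · exact ⟨projInv, Subgroup.subset_closure (by simp), agrees_pack (fun i _ => rfl)⟩
    · exact ⟨cubeTwist, Subgroup.subset_closure (by simp), agrees_pack (fun i _ => rfl)⟩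
  exact eq_M24_of_cov _ hle allG hl (by decide +kernel) (by decide +kernel) (by decide +kernel)
    (by decide +kernel) (by decide +kernel) (by decide +kernel) (by decide +kernel)

end CfsgL.Golay
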