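import Cfsg.Agent.L.Golay.DodData
import Cfsg.Agent.L.Golay.SLP
/-!
Dodecads: transitivity, the stabiliser `M12` and the point stabiliser `M11`.
-/
set_option autoImplicit false
namespace CfsgL.Golay
open Cfsg CfsgL.Comp
open scoped Pointwise

/-- induction along a pointer table -/
theorem tree_reach (f : ℕ → Bool) (act : ℕ → ℕ → ℕ) (K D : ℕ → ℕ) (x0 n : ℕ)
    (hc : allD (fun x => Bool.or (Bool.not (f x)) (Bool.or (Nat.beq x x0)
      (force (act (K x) x) (fun y => Bool.and (Nat.ble (y + 1) (2 ^ n))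
        (Bool.and (f y) (Nat.ble (D y + 1) (D x))))))) n 0 = true)
    (P : ℕ → Prop) (h0 : P x0) (hs : ∀ x < 2 ^ n, f x = true → P (act (K x) x) → P x) :
    ∀ x < 2 ^ n, f x = true → P x := by
  have key : ∀ d x, x < 2 ^ n → f x = true → D x ≤ d → P x := by
    intro d
    induction d with
    | zero =>
      intro x hx hf hd
      have h := allD_lt hc hx
      simp only [hf, Bool.not_true, Bool.false_or, Bool.or_eq_true, natBeq_iff, force_eq,
        Bool.and_eq_true, natBle_iff] at h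
      rcases h with rfl | ⟨_, _, h⟩
      · exact h0
      · omega
    | succ d ih =>
      intro x hx hf hd
      have h := allD_lt hc hx
      simp only [hf, Bool.not_true, Bool.false_or, Bool.or_eq_true, natBeq_iff, force_eq,
        Bool.and_eq_true, natBle_iff] at h
      rcases h with rfl | ⟨h1, h2, h3⟩
      · exact h0
      · exact hs x hx hf (ih _ (by omega) h2 (by omega))
  intro x hx hf
  exact key (D x) x hx hf le_rfl

/-- membership of the words in an orbit, by a pointer table with entries `4 * depth + generator` -/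
theorem words_reach (H : Subgroup (Equiv.Perm GolayPt)) (hH : H ≤ M24) (gs : List ℕ)
    (hg : ∀ P ∈ gs, InH H P) (f : ℕ → Bool) (tab w x0 : ℕ)
    (hc : allD (fun x => Bool.or (Bool.not (f x)) (Bool.or (Nat.beq x x0)
      (force (Nat.mod (img (gs.getD (Nat.mod (Nat.shiftRight tab (8 * x)) (2 ^ w)) pone) (enc x)) 4096)
        (fun y => Bool.and (Nat.ble (y + 1) (2 ^ 12))
        (Bool.and (f y) (Nat.ble (Nat.mod (Nat.shiftRight tab (8 * y)) 256 / 2 ^ w + 1)
          (Nat.mod (Nat.shiftRight tab (8 * x)) 256 / 2 ^ w))))))) 12 0 = true) :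
    ∀ x < 4096, f x = true → ∃ g ∈ H, g • mset (enc x) = mset (enc x0) := by
  refine tree_reach f
    (fun k x => Nat.mod (img (gs.getD k pone) (enc x)) 4096)
    (fun x => Nat.mod (Nat.shiftRight tab (8 * x)) (2 ^ w))
    (fun x => Nat.mod (Nat.shiftRight tab (8 * x)) 256 / 2 ^ w) x0 12 hc
    (fun x => ∃ g ∈ H, g • mset (enc x) = mset (enc x0)) ⟨1, H.one_mem, one_smul _ _⟩ ?_
  rintro x hx hf ⟨g, hgH, h⟩
  obtain ⟨u, hu, hA⟩ := inH_getD hg (Nat.mod (Nat.shiftRight tab (8 * x)) (2 ^ w))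
  refine ⟨g * u, H.mul_mem hgH hu, ?_⟩
  rw [mul_smul, ← hA.mset_img]
  have h1 : inCode (img (gs.getD (Nat.mod (Nat.shiftRight tab (8 * x)) (2 ^ w)) pone) (enc x)) = true := by
    rw [← mset_mem_supports (hA.img_lt _), hA.mset_img, smul_mem_supports (hH hu),
      mset_mem_supports (enc_lt x)]
    exact inCode_enc x
  obtain ⟨y, hy, e⟩ := inCode_iff.1 h1
  have e2 : Nat.mod (img (gs.getD (Nat.mod (Nat.shiftRight tab (8 * x)) (2 ^ w)) pone) (enc x)) 4096 = y := by
    rw [e]; exact enc_low hy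
  rw [e2] at h
  rw [e, h]

theorem gens_inH : ∀ P ∈ gensL, InH M24 P := by
  intro P hP
  rw [← gensL_eq] at hP
  simp only [gensG, List.mem_cons, List.not_mem_nil, or_false] at hP
  rcases hP with rfl | rfl | rfl
  · exact ⟨T1, T1_mem, agrees_pack (fun i _ => rfl)⟩
  · exact ⟨projInv, projInv_mem, agrees_pack (fun i _ => rfl)⟩
  · exact ⟨cubeTwist, cubeTwist_mem, agrees_pack (fun i _ => rfl)⟩

/-- the base dodecad -/
def D0 : Finset GolayPt := mset 0x5335f

theorem mem_dodecads_mset {m : ℕ} (h : inCode m = true) (h' : pop24 m = 12) : mset m ∈ dodecads := by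
  rw [mem_dodecads', mset_mem_supports (inCode_lt h)]
  exact ⟨h, by rw [card_mset, h']⟩

theorem D0_mem : D0 ∈ dodecads := mem_dodecads_mset (by decide +kernel) (by decide +kernel)

theorem dod_reach : ∀ x < 4096, Nat.beq (pop24 (enc x)) 12 = true →
    ∃ g ∈ M24, g • mset (enc x) = mset (enc 0x35f) :=
  words_reach M24 le_rfl gensL gens_inH (fun x => Nat.beq (pop24 (enc x)) 12) dodTab 2 0x35f
    (by decide +kernel)

theorem D0_eq : D0 = mset (enc 0x35f) := by
  unfold D0; congr 1

theorem dodecad_base {d : Finset GolayPt} (hd : d ∈ dodecads) : ∃ g ∈ M24, g • d = D0 := by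
  rw [mem_dodecads'] at hd
  obtain ⟨h1, h2⟩ := hd
  obtain ⟨x, hx, rfl⟩ := mem_supports.1 h1
  rw [D0_eq]
  refine dod_reach x hx ?_
  rw [natBeq_iff, ← card_mset, h2]

theorem dodecad_trans {d d' : Finset GolayPt} (hd : d ∈ dodecads) (hd' : d' ∈ dodecads) :
    ∃ g ∈ M24, g • d = d' := by
  obtain ⟨g, hg, h⟩ := dodecad_base hd
  obtain ⟨g', hg', h'⟩ := dodecad_base hd'
  exact ⟨g'⁻¹ * g, M24.mul_mem (M24.inv_mem hg') hg, by rw [mul_smul, h, ← h', inv_smul_smul]⟩

/-- the stabiliser in `M24` of a set of points -/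
def st (s : Finset GolayPt) : Subgroup (Equiv.Perm GolayPt) :=
  M24 ⊓ MulAction.stabilizer (Equiv.Perm GolayPt) s

theorem mem_st {s : Finset GolayPt} {g : Equiv.Perm GolayPt} : g ∈ st s ↔ g ∈ M24 ∧ g • s = s :=
  Iff.rfl

theorem stabilizer_set_eq (s : Finset GolayPt) :
    MulAction.stabilizer M24 s = (st s).subgroupOf M24 := by
  ext g
  rw [Subgroup.mem_subgroupOf, MulAction.mem_stabilizer_iff, mem_st]
  exact ⟨fun h => ⟨g.2, h⟩, fun h => h.2⟩

theorem card_st_dodecad {d : Finset GolayPt} (hd : d ∈ dodecads) : Nat.card (st d) = 95040 := by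
  have h1 : Nat.card (st d) = Nat.card (MulAction.stabilizer M24 d) := by
    rw [stabilizer_set_eq, card_subgroupOf (A := st d) inf_le_left]
  have h2 : MulAction.orbit M24 d = dodecads := by
    ext e
    constructor
    · rintro ⟨g, rfl⟩
      exact (smul_dodecad g.2).2 hd
    · intro he
      obtain ⟨g, hg, h⟩ := dodecad_trans hd he
      exact ⟨⟨g, hg⟩, h⟩
  have h3 := Nat.card_congr (MulAction.orbitProdStabilizerEquivGroup M24 d)
  rw [Nat.card_prod, h2, card_M24] at h3
  have h4 : Nat.card dodecads = 2576 := dodecads_ncard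
  rw [h4] at h3
  rw [h1]
  omega

end CfsgL.Golay
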