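import Cfsg.Agent.L.Golay.M12b
/-!
Hexads on a dodecad, intersection counts.
-/
set_option autoImplicit false
namespace CfsgL.Golay
open Cfsg CfsgL.Comp
open scoped Pointwise

/-- counting codeword supports with a Boolean property, with sharing -/
theorem ncard_sf (f : ℕ → Bool) (S : Set (Finset GolayPt))
    (hS : ∀ s, s ∈ S ↔ ∃ x < 4096, f (enc x) = true ∧ s = mset (enc x)) (n : ℕ)
    (hn : cntD (fun x => force (enc x) f) 12 0 = n) : S.ncard = n := by
  rw [← hn]
  have : (fun x => force (enc x) f) = fun x => f (enc x) := funext (fun x => force_eq _ _)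
  rw [this]
  exact ncard_supports_filter f S hS

/-- cardinality of a family of codeword supports defined invariantly, moved to a base object -/
theorem ncard_smul_eq {g : Equiv.Perm GolayPt} {S T : Set (Finset GolayPt)}
    (h : ∀ s, s ∈ S ↔ g • s ∈ T) : S.ncard = T.ncard := by
  have : g • S = T := by
    ext t
    rw [Set.mem_smul_set_iff_inv_smul_mem, h, smul_inv_smul]
  rw [← this, Set.ncard_smul_set]

/-- an octad meets a dodecad in 2, 4 or 6 points -/
theorem octad_dodecad_inter {o d : Finset GolayPt} (ho : o ∈ octads) (hd : d ∈ dodecads) :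
    (o ∩ d).card = 2 ∨ (o ∩ d).card = 4 ∨ (o ∩ d).card = 6 := by
  obtain ⟨h1, h2⟩ := mem_octads'.1 ho
  obtain ⟨h3, h4⟩ := mem_dodecads'.1 hd
  have h5 := card_of_mem_supports (symmDiff_mem_supports h1 h3)
  have h6 := card_symmDiff_add o d
  have h7 := Finset.card_le_card (Finset.inter_subset_left (s₁ := o) (s₂ := d))
  omega

/-- codewords of weight `w` meeting the word with mask `b` in `k` points -/
def wk (w b k m : ℕ) : Bool := Bool.and (Nat.beq (pop24 m) w) (Nat.beq (pop24 (Nat.land m b)) k)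

theorem wk_iff {w b k : ℕ} {s : Finset GolayPt} :
    (s ∈ wordsOfWeight (golayCode : Set (GolayPt → ZMod 2)) w ∧ (s ∩ mset b).card = k) ↔
      ∃ x < 4096, wk w b k (enc x) = true ∧ s = mset (enc x) := by
  rw [mem_wordsOfWeight]
  unfold wk
  constructor
  · rintro ⟨⟨x, hx, h1, rfl⟩, h2⟩
    refine ⟨x, hx, ?_, rfl⟩
    rw [Bool.and_eq_true, natBeq_iff, natBeq_iff]
    refine ⟨h1, ?_⟩
    rw [← h2, ← mset_and, card_mset]
    rfl
  · rintro ⟨x, hx, h, rfl⟩
    rw [Bool.and_eq_true, natBeq_iff, natBeq_iff] at h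
    refine ⟨⟨x, hx, h.1, rfl⟩, ?_⟩
    rw [← mset_and, card_mset]
    exact h.2

theorem ncard_wk (w b k n : ℕ) (hn : cntD (fun x => force (enc x) (wk w b k)) 12 0 = n) :
    {s : Finset GolayPt | s ∈ wordsOfWeight (golayCode : Set (GolayPt → ZMod 2)) w ∧
      (s ∩ mset b).card = k}.ncard = n :=
  ncard_sf (wk w b k) _ (fun _ => wk_iff) n hn

theorem smul_wordsOfWeight {g : Equiv.Perm GolayPt} (hg : g ∈ M24) {w : ℕ} {s : Finset GolayPt} :
    g • s ∈ wordsOfWeight (golayCode : Set (GolayPt → ZMod 2)) w ↔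
      s ∈ wordsOfWeight (golayCode : Set (GolayPt → ZMod 2)) w := by
  change (g • s ∈ supports (golayCode : Set (GolayPt → ZMod 2)) ∧ (g • s).card = w) ↔
    (s ∈ supports (golayCode : Set (GolayPt → ZMod 2)) ∧ s.card = w)
  rw [smul_mem_supports hg, card_smul_finset']

/-- transfer an intersection count to the base word -/
theorem ncard_inter_transfer {g : Equiv.Perm GolayPt} (hg : g ∈ M24) (w k : ℕ) (d : Finset GolayPt) :
    {s : Finset GolayPt | s ∈ wordsOfWeight (golayCode : Set (GolayPt → ZMod 2)) w ∧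
      (s ∩ d).card = k}.ncard =
    {s : Finset GolayPt | s ∈ wordsOfWeight (golayCode : Set (GolayPt → ZMod 2)) w ∧
      (s ∩ (g • d)).card = k}.ncard := by
  apply ncard_smul_eq (g := g)
  intro s
  rw [Set.mem_ofPred_eq, Set.mem_ofPred_eq, smul_wordsOfWeight hg, ← Finset.smul_finset_inter,
    card_smul_finset']

theorem octads_dod_count {d : Finset GolayPt} (hd : d ∈ dodecads) :
    {o : Finset GolayPt | o ∈ octads ∧ (o ∩ d).card = 6}.ncard = 132 ∧
    {o : Finset GolayPt | o ∈ octads ∧ (o ∩ d).card = 2}.ncard = 132 ∧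
    {o : Finset GolayPt | o ∈ octads ∧ (o ∩ d).card = 4}.ncard = 495 := by
  obtain ⟨g, hg, h⟩ := dodecad_base hd
  refine ⟨?_, ?_, ?_⟩
  · have := ncard_inter_transfer hg 8 6 d
    rw [h] at this
    exact this.trans (ncard_wk 8 0x5335f 6 132 (by decide +kernel))
  · have := ncard_inter_transfer hg 8 2 d
    rw [h] at this
    exact this.trans (ncard_wk 8 0x5335f 2 132 (by decide +kernel))
  · have := ncard_inter_transfer hg 8 4 d
    rw [h] at this
    exact this.trans (ncard_wk 8 0x5335f 4 495 (by decide +kernel))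

/-- an octad is not contained in a dodecad; five points of the dodecad force a hexad -/
theorem hexad_steiner {d : Finset GolayPt} (hd : d ∈ dodecads) :
    IsSteinerSystem 5 6 {h : Finset {p : GolayPt // p ∈ d} |
      ∃ o ∈ octads, (o ∩ d).card = 6 ∧ h = Finset.subtype (fun p => p ∈ d) o} := by
  have hcard : ∀ o : Finset GolayPt, (Finset.subtype (fun p => p ∈ d) o).card = (o ∩ d).card := by
    intro o
    rw [Finset.card_subtype, Finset.filter_mem_eq_inter]
  constructor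
  · rintro _ ⟨o, _, h, rfl⟩
    rw [hcard, h]
  · intro s hs
    set s' : Finset GolayPt := s.map (Function.Embedding.subtype _) with hs'
    have hsd : s' ⊆ d := by
      intro p hp
      rw [hs', Finset.mem_map] at hp
      obtain ⟨q, _, rfl⟩ := hp
      exact q.2
    have hs5 : s'.card = 5 := by rw [hs', Finset.card_map, hs]
    have hiff : ∀ o : Finset GolayPt, s ⊆ Finset.subtype (fun p => p ∈ d) o ↔ s' ⊆ o := by
      intro o
      constructor
      · intro h p hp
        rw [hs', Finset.mem_map] at hp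
        obtain ⟨q, hq, rfl⟩ := hp
        exact Finset.mem_subtype.1 (h hq)
      · intro h p hp
        rw [Finset.mem_subtype]
        apply h
        rw [hs', Finset.mem_map]
        exact ⟨p, hp, rfl⟩
    obtain ⟨o, ⟨ho, hso⟩, hu⟩ := steiner.2 s' hs5
    have h5 : 5 ≤ (o ∩ d).card := by
      rw [← hs5]; exact Finset.card_le_card (Finset.subset_inter hso hsd)
    have h6 : (o ∩ d).card = 6 := by
      rcases octad_dodecad_inter ho hd with h | h | h <;> omega
    refine ⟨Finset.subtype (fun p => p ∈ d) o, ⟨⟨o, ho, h6, rfl⟩, (hiff o).2 hso⟩, ?_⟩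
    rintro _ ⟨⟨o', ho', _, rfl⟩, hs''⟩
    rw [hu o' ⟨ho', (hiff o').1 hs''⟩]

/-! ### Three-transitivity of `M11` on the complement -/

theorem tcOK0 : trOK [0] tc0 = true := by decide +kernel
theorem tcOK1 : trOK [0, 23] tc1 = true := by decide +kernel
theorem tcOK2 : trOK [0, 23, 5] tc2 = true := by decide +kernel
theorem tcCov0 : trCov 23 (inMask 0xfacca0 []) tc0 = true := by decide +kernel
theorem tcCov1 : trCov 5 (inMask 0xfacca0 [23]) tc1 = true := by decide +kernel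
theorem tcCov2 : trCov 7 (inMask 0xfacca0 [23, 5]) tc2 = true := by decide +kernel
theorem tcD0 : trD tc0 = true := by decide +kernel
theorem tcD1 : trD tc1 = true := by decide +kernel
theorem tcD2 : trD tc2 = true := by decide +kernel

theorem tc_exists {fx : List ℕ} {l : List (ℕ × ℕ)} {b : ℕ} {f : ℕ → Bool}
    (h1 : trOK fx l = true) (h2 : trCov b f l = true)
    (h4 : trD l = true) (hb : b < 24) (q : GolayPt) (hq : f (toIdx q) = true) :
    ∃ g ∈ st D0, (∀ i ∈ fx, ∀ p, toIdx p = i → g p = p) ∧ g (ofIdx b) = q := by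
  obtain ⟨x, hx, h, hm, e1, e2⟩ := table_entry h1 h2 hb q hq
  unfold trD at h4
  rw [List.all_eq_true] at h4
  refine ⟨_, mem_st.2 ⟨hm, ?_⟩, e1, e2⟩
  have := natBeq_iff.1 (h4 x hx)
  unfold D0
  rw [← mset_img h, this]

theorem D0_compl : ∀ p : GolayPt, p ∉ D0 → Nat.testBit 0xfacca0 (toIdx p) = true := by
  decide +kernel

/-- every triple outside `D0` is the image of the base triple under the base `M11` -/
theorem M11_base_three (a b c : GolayPt) (ha : a ∉ D0) (hb : b ∉ D0) (hc : c ∉ D0) (hab : a ≠ b)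
    (hac : a ≠ c) (hbc : b ≠ c) : ∃ g ∈ st1 D0 (bp 0), g (bp 23) = a ∧ g (bp 5) = b ∧ g (bp 7) = c := by
  have n0 : ∀ (q : GolayPt) (l : List ℕ), q ∉ D0 → (∀ i ∈ l, toIdx q ≠ i) →
      inMask 0xfacca0 l (toIdx q) = true := by
    intro q l hq hl
    unfold inMask notIn
    rw [Bool.and_eq_true, List.all_eq_true]
    refine ⟨D0_compl q hq, fun i hi => ?_⟩
    have : Nat.beq i (toIdx q) = false := by
      rw [← Bool.not_eq_true, natBeq_iff]; exact fun h => hl i hi h.symm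
    rw [this]; rfl
  have ti : ∀ (q : GolayPt) (i : ℕ), i < 24 → q ≠ bp i → toIdx q ≠ i := by
    intro q i hi hne h
    apply hne
    rw [← toIdx_inj, h]; exact (toIdx_ofIdx hi).symm
  have stout : ∀ (g : Equiv.Perm GolayPt), g ∈ st D0 → ∀ p, p ∉ D0 → g⁻¹ p ∉ D0 := by
    intro g hg p hp h
    exact hp (by
      have := (smul_mem_of_st hg).2 h
      simpa using this)
  obtain ⟨g1, hg1, f1, e1⟩ := tc_exists tcOK0 tcCov0 tcD0 (by norm_num) a
    (n0 a [] ha (by simp))
  have hb1 : g1⁻¹ b ≠ bp 23 := by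
    intro h
    rw [Equiv.Perm.inv_eq_iff_eq] at h
    exact hab (by rw [h]; exact e1.symm)
  obtain ⟨g2, hg2, f2, e2⟩ := tc_exists tcOK1 tcCov1 tcD1 (by norm_num) (g1⁻¹ b)
    (n0 _ [23] (stout g1 hg1 b hb) (by
      intro i hi
      simp only [List.mem_cons, List.not_mem_nil, or_false] at hi
      subst hi
      exact ti _ _ (by norm_num) hb1))
  have hg12 : g1 * g2 ∈ st D0 := (st D0).mul_mem hg1 hg2
  have ea : (g1 * g2) (bp 23) = a := by
    rw [Equiv.Perm.mul_apply, f2 23 (by simp) (bp 23) rfl]; exact e1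
  have eb : (g1 * g2) (bp 5) = b := by
    rw [Equiv.Perm.mul_apply]
    have : g2 (bp 5) = g1⁻¹ b := e2
    rw [this]; simp
  have hc1 : (g1 * g2)⁻¹ c ≠ bp 23 := by
    intro h
    rw [Equiv.Perm.inv_eq_iff_eq, ea] at h
    exact hac h.symm
  have hc2 : (g1 * g2)⁻¹ c ≠ bp 5 := by
    intro h
    rw [Equiv.Perm.inv_eq_iff_eq, eb] at h
    exact hbc h.symm
  obtain ⟨g3, hg3, f3, e3⟩ := tc_exists tcOK2 tcCov2 tcD2 (by norm_num) ((g1 * g2)⁻¹ c)
    (n0 _ [23, 5] (stout _ hg12 c hc) (by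
      intro i hi
      simp only [List.mem_cons, List.not_mem_nil, or_false] at hi
      rcases hi with rfl | rfl
      · exact ti _ _ (by norm_num) hc1
      · exact ti _ _ (by norm_num) hc2))
  refine ⟨g1 * g2 * g3, mem_st1.2 ⟨(st D0).mul_mem hg12 hg3, ?_⟩, ?_, ?_, ?_⟩
  · rw [Equiv.Perm.mul_apply, Equiv.Perm.mul_apply, f3 0 (by simp) (bp 0) rfl,
      f2 0 (by simp) (bp 0) rfl, f1 0 (by simp) (bp 0) rfl]
  · rw [Equiv.Perm.mul_apply, f3 23 (by simp) (bp 23) rfl, ea]
  · rw [Equiv.Perm.mul_apply, f3 5 (by simp) (bp 5) rfl, eb]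
  · rw [Equiv.Perm.mul_apply]
    have : g3 (bp 7) = (g1 * g2)⁻¹ c := e3
    rw [this]; simp

theorem M11_three_trans {d : Finset GolayPt} (hd : d ∈ dodecads) {p : GolayPt} (hp : p ∈ d)
    (x y : Fin 3 ↪ GolayPt) (hx : ∀ i, x i ∉ d) (hy : ∀ i, y i ∉ d) :
    ∃ g ∈ st1 d p, ∀ i, g (x i) = y i := by
  obtain ⟨k, hk, rfl, rfl⟩ := flag_trans D0_mem hd (D0_five (bp 0) (by simp)) hp
  have hout : ∀ q, q ∉ k • D0 → k⁻¹ q ∉ D0 := by
    intro q hq h
    apply hq
    have := Finset.smul_mem_smul_finset (a := k) h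
    simpa using this
  have hne : ∀ (z : Fin 3 ↪ GolayPt) i j, i ≠ j → k⁻¹ (z i) ≠ k⁻¹ (z j) := fun z i j hij h =>
    hij (z.injective (k⁻¹.injective h))
  obtain ⟨g, hg, a1, a2, a3⟩ := M11_base_three (k⁻¹ (x 0)) (k⁻¹ (x 1)) (k⁻¹ (x 2))
    (hout _ (hx 0)) (hout _ (hx 1)) (hout _ (hx 2)) (hne x 0 1 (by decide)) (hne x 0 2 (by decide))
    (hne x 1 2 (by decide))
  obtain ⟨g', hg', b1, b2, b3⟩ := M11_base_three (k⁻¹ (y 0)) (k⁻¹ (y 1)) (k⁻¹ (y 2))
    (hout _ (hy 0)) (hout _ (hy 1)) (hout _ (hy 2)) (hne y 0 1 (by decide)) (hne y 0 2 (by decide))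
    (hne y 1 2 (by decide))
  refine ⟨k * (g' * g⁻¹) * k⁻¹, ((st1Map hk D0 (bp 0)) ⟨g' * g⁻¹,
    (st1 D0 (bp 0)).mul_mem hg' ((st1 D0 (bp 0)).inv_mem hg)⟩).2, ?_⟩
  have c1 : g⁻¹ (k⁻¹ (x 0)) = bp 23 := by rw [Equiv.Perm.inv_eq_iff_eq, a1]
  have c2 : g⁻¹ (k⁻¹ (x 1)) = bp 5 := by rw [Equiv.Perm.inv_eq_iff_eq, a2]
  have c3 : g⁻¹ (k⁻¹ (x 2)) = bp 7 := by rw [Equiv.Perm.inv_eq_iff_eq, a3]
  intro i
  simp only [Equiv.Perm.mul_apply]
  fin_cases i
  · change k (g' (g⁻¹ (k⁻¹ (x 0)))) = y 0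
    rw [c1, b1]; simp
  · change k (g' (g⁻¹ (k⁻¹ (x 1)))) = y 1
    rw [c2, b2]; simp
  · change k (g' (g⁻¹ (k⁻¹ (x 2)))) = y 2
    rw [c3, b3]; simp

end CfsgL.Golay
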