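import Cfsg.Agent.L.Golay.Dodecads
/-!
The dodecad stabiliser `M12` and the point stabiliser `M11`.
-/
set_option autoImplicit false
namespace CfsgL.Golay
open Cfsg CfsgL.Comp
open scoped Pointwise

/-- pull out a table entry from a chain of transversals -/
theorem table_entry {fx : List ℕ} {l : List (ℕ × ℕ)} {b : ℕ} {f : ℕ → Bool}
    (h1 : trOK fx l = true) (h2 : trCov b f l = true) (hb : b < 24) (q : GolayPt)
    (hq : f (toIdx q) = true) :
    ∃ x ∈ l, ∃ h : permOK x.1 x.2 = true, toPerm x.1 x.2 h ∈ M24 ∧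
      (∀ i ∈ fx, ∀ p, toIdx p = i → toPerm x.1 x.2 h p = p) ∧ toPerm x.1 x.2 h (ofIdx b) = q := by
  unfold trCov at h2
  rw [allR_iff] at h2
  have h3 := h2 (toIdx q) (toIdx_lt q)
  rw [hq] at h3
  simp only [Bool.not_true, Bool.false_or, List.any_eq_true, natBeq_iff] at h3
  obtain ⟨x, hx, h3⟩ := h3
  unfold trOK at h1
  rw [List.all_eq_true] at h1
  have h4 := h1 x hx
  simp only [Bool.and_eq_true, List.all_eq_true, natBeq_iff] at h4
  obtain ⟨⟨h5, h6⟩, h7⟩ := h4
  refine ⟨x, hx, h5, toPerm_mem_M24 h5 h6, ?_, ?_⟩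
  · rintro i hi p rfl
    rw [← toIdx_inj, toIdx_toPerm]
    exact h7 _ hi
  · rw [← toIdx_inj, toIdx_toPerm, toIdx_ofIdx hb, h3]

theorem fx5_eq {g : Equiv.Perm GolayPt} (hg : g ∈ fx [bp 3, bp 2, bp 1, bp 0, bp 23]) :
    ∃ x ∈ tr5, ∃ y ∈ tr6, ∃ (h : permOK x.1 x.2 = true) (h' : permOK y.1 y.2 = true),
      g = toPerm x.1 x.2 h * toPerm y.1 y.2 h' := by
  have key : ∀ q : GolayPt, q ∈ mset 0x24020 →
      (fun q => (Nat.beq q 5).or ((Nat.beq q 14).or (Nat.beq q 17))) (toIdx q) = true := by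
    decide +kernel
  obtain ⟨x, hx, h, hm, h1, h2⟩ := table_entry trOK5 trCov5 (by norm_num) (g (bp 5))
    (key _ (fx5_range hg))
  have h3 : (toPerm x.1 x.2 h)⁻¹ * g ∈ fx [bp 5, bp 3, bp 2, bp 1, bp 0, bp 23] := by
    rw [← fx_cons, Subgroup.mem_inf]
    constructor
    · apply (fx _).mul_mem _ hg
      apply (fx _).inv_mem
      refine ⟨hm, ?_⟩
      intro p hp
      have key : ∀ p ∈ [bp 3, bp 2, bp 1, bp 0, bp 23], toIdx p ∈ [23, 0, 1, 2, 3] := by
        decide +kernel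
      exact h1 _ (key p hp) p rfl
    · rw [MulAction.mem_stabilizer_iff]
      change (toPerm x.1 x.2 h)⁻¹ (g (bp 5)) = bp 5
      rw [Equiv.Perm.inv_eq_iff_eq]
      exact h2.symm
  obtain ⟨y, hy, h', e⟩ := fx6_eq h3
  exact ⟨x, hx, y, hy, h, h', by rw [← e, mul_inv_cancel_left]⟩

/-- the sharpness check -/
def sharpOK : Bool :=
  allD (fun x => force (enc x) (fun m =>
    Bool.or (Bool.not (Bool.and (Nat.beq (Nat.land m 0x80000f) 0x80000f) (Nat.beq (pop24 m) 12)))
    (tr5.all (fun u => tr6.all (fun v => Bool.or (Bool.not (Nat.beq (img u.1 (img v.1 m)) m))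
      (allR (fun i => Nat.beq (papp u.1 (papp v.1 i)) i) 24)))))) 12 0

theorem sharpOK_true : sharpOK = true := by decide +kernel

theorem sharp_base {d : Finset GolayPt} (hd : d ∈ dodecads)
    (hb : ∀ p ∈ [bp 3, bp 2, bp 1, bp 0, bp 23], p ∈ d) {g : Equiv.Perm GolayPt}
    (hg : g ∈ fx [bp 3, bp 2, bp 1, bp 0, bp 23]) (hgd : g • d = d) : g = 1 := by
  obtain ⟨h1, h2⟩ := mem_dodecads'.1 hd
  obtain ⟨x, hx, rfl⟩ := mem_supports.1 h1
  obtain ⟨u, hu, v, hv, h, h', rfl⟩ := fx5_eq hg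
  have hc := allD_lt sharpOK_true hx
  have hc1 : Nat.beq (Nat.land (enc x) 0x80000f) 0x80000f = true := by
    rw [natBeq_iff]
    have e : mset (enc x &&& 0x80000f) = mset 0x80000f := by
      rw [mset_and]
      apply Finset.inter_eq_right.2
      have key : ∀ p, p ∈ mset 0x80000f → p ∈ [bp 3, bp 2, bp 1, bp 0, bp 23] := by decide +kernel
      intro p hp
      exact hb p (key p hp)
    refine (mset_inj ?_ (by norm_num)).1 e
    exact lt_of_le_of_lt Nat.and_le_left (enc_lt x)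
  have hc2 : Nat.beq (pop24 (enc x)) 12 = true := by rw [natBeq_iff, ← card_mset, h2]
  rw [force_eq, hc1, hc2] at hc
  simp only [Bool.and_self, Bool.not_true, Bool.false_or, List.all_eq_true, Bool.or_eq_true,
    Bool.not_eq_true'] at hc
  have hc3 := hc u hu v hv
  have e1 : Nat.beq (img u.1 (img v.1 (enc x))) (enc x) = true := by
    rw [natBeq_iff]
    apply (mset_inj (img_lt h _) (enc_lt x)).1
    rw [mset_img h, mset_img h', ← mul_smul, hgd]
  rw [e1] at hc3
  rcases hc3 with hc3 | hc3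
  · exact absurd hc3 (by simp)
  · rw [allR_iff] at hc3
    ext p : 1
    rw [← toIdx_inj, Equiv.Perm.mul_apply, toIdx_toPerm, toIdx_toPerm]
    exact natBeq_iff.1 (hc3 _ (toIdx_lt p))

theorem sharp {d : Finset GolayPt} (hd : d ∈ dodecads) (f : Fin 5 ↪ GolayPt) (hf : ∀ i, f i ∈ d)
    {g : Equiv.Perm GolayPt} (hg : g ∈ st d) (h : ∀ i, g (f i) = f i) : g = 1 := by
  let y : Fin 5 ↪ GolayPt := ⟨fun i => ![bp 3, bp 2, bp 1, bp 0, bp 23] i, by decide +kernel⟩
  obtain ⟨k, hk, hk'⟩ := five_trans_emb f y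
  obtain ⟨hg1, hg2⟩ := mem_st.1 hg
  have h1 : k * g * k⁻¹ ∈ fx [bp 3, bp 2, bp 1, bp 0, bp 23] := by
    refine ⟨M24.mul_mem (M24.mul_mem hk hg1) (M24.inv_mem hk), ?_⟩
    have h0 : ∀ i, (k * g * k⁻¹) (y i) = y i := by
      intro i
      rw [← hk' i]
      simp [h i]
    intro p hp
    simp only [List.mem_cons, List.not_mem_nil, or_false] at hp
    rcases hp with rfl | rfl | rfl | rfl | rfl
    · exact h0 0
    · exact h0 1
    · exact h0 2
    · exact h0 3
    · exact h0 4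
  have h2 : (k * g * k⁻¹) • (k • d) = k • d := by
    rw [mul_smul, mul_smul, inv_smul_smul, hg2]
  have h3 : k * g * k⁻¹ = 1 := by
    apply sharp_base ((smul_dodecad hk).2 hd) _ h1 h2
    have h0 : ∀ i, y i ∈ k • d := by
      intro i
      rw [← hk' i]
      exact Finset.smul_mem_smul_finset (hf i)
    intro p hp
    simp only [List.mem_cons, List.not_mem_nil, or_false] at hp
    rcases hp with rfl | rfl | rfl | rfl | rfl
    · exact h0 0
    · exact h0 1
    · exact h0 2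
    · exact h0 3
    · exact h0 4
  have h4 : k * g = k := mul_inv_eq_one.1 h3
  exact mul_eq_left.1 h4

theorem card_dodecad {d : Finset GolayPt} (hd : d ∈ dodecads) : d.card = 12 := (mem_dodecads'.1 hd).2

theorem smul_mem_of_st {d : Finset GolayPt} {g : Equiv.Perm GolayPt} (hg : g ∈ st d) {p : GolayPt} :
    g p ∈ d ↔ p ∈ d := by
  have h1 := (mem_st.1 hg).2
  constructor
  · intro h
    rw [← h1, Finset.mem_smul_finset] at h
    obtain ⟨q, hq, e⟩ := h
    have : q = p := g.injective e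
    rwa [← this]
  · intro h
    rw [← h1]
    exact Finset.smul_mem_smul_finset h

theorem dod_five_trans {d : Finset GolayPt} (hd : d ∈ dodecads) (x y : Fin 5 ↪ GolayPt)
    (hx : ∀ i, x i ∈ d) (hy : ∀ i, y i ∈ d) : ∃ g ∈ st d, ∀ i, g (x i) = y i := by
  classical
  let F : st d → (Fin 5 ↪ d) := fun g =>
    ⟨fun i => ⟨g.1 (x i), (smul_mem_of_st g.2).2 (hx i)⟩, fun i j hij => by
      have := congrArg Subtype.val hij
      exact x.injective (g.1.injective this)⟩
  have hinj : Function.Injective F := by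
    intro g h hgh
    have h1 : ∀ i, g.1 (x i) = h.1 (x i) := fun i =>
      congrArg Subtype.val (DFunLike.congr_fun hgh i)
    have h2 : h.1⁻¹ * g.1 = 1 := by
      apply sharp hd x hx ((st d).mul_mem ((st d).inv_mem h.2) g.2)
      intro i
      rw [Equiv.Perm.mul_apply, h1 i]; simp
    exact Subtype.ext (inv_mul_eq_one.1 h2).symm
  have hcard : Nat.card (Fin 5 ↪ d) = Nat.card (st d) := by
    rw [card_st_dodecad hd, Nat.card_eq_fintype_card, Fintype.card_embedding_eq, Fintype.card_coe,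
      card_dodecad hd, Fintype.card_fin]
    decide
  have hsurj : Function.Surjective F :=
    ((Nat.bijective_iff_injective_and_card F).2 ⟨hinj, hcard.symm⟩).2
  let y' : Fin 5 ↪ d := ⟨fun i => ⟨y i, hy i⟩, fun i j hij => y.injective (congrArg Subtype.val hij)⟩
  obtain ⟨g, hg⟩ := hsurj y'
  exact ⟨g.1, g.2, fun i => congrArg Subtype.val (DFunLike.congr_fun hg i)⟩

/-- extend a point to an embedding of five points inside a set -/
theorem exists_emb_ext {s : Finset GolayPt} {n : ℕ} (hn : n + 1 ≤ s.card) {a : GolayPt} (ha : a ∈ s) :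
    ∃ f : Fin (n + 1) ↪ GolayPt, (∀ i, f i ∈ s) ∧ f 0 = a := by
  obtain ⟨f, hf⟩ := exists_emb (s := s.erase a) (n := n) (by rw [Finset.card_erase_of_mem ha]; omega)
  refine ⟨⟨Fin.cons a f, ?_⟩, ?_, rfl⟩
  · rw [Fin.cons_injective_iff]
    refine ⟨?_, f.injective⟩
    rintro ⟨i, hi⟩
    have := hf i
    rw [hi] at this
    simp at this
  · intro i
    refine Fin.cases ?_ (fun j => ?_) i
    · exact ha
    · exact Finset.mem_of_mem_erase (hf j)

theorem exists_emb_ext2 {s : Finset GolayPt} {n : ℕ} (hn : n + 2 ≤ s.card) {a b : GolayPt}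
    (ha : a ∈ s) (hb : b ∈ s) (hab : a ≠ b) :
    ∃ f : Fin (n + 2) ↪ GolayPt, (∀ i, f i ∈ s) ∧ f 0 = a ∧ f 1 = b := by
  obtain ⟨f, hf, h0⟩ := exists_emb_ext (s := s.erase a) (n := n)
    (by rw [Finset.card_erase_of_mem ha]; omega) (Finset.mem_erase.2 ⟨Ne.symm hab, hb⟩)
  refine ⟨⟨Fin.cons a f, ?_⟩, ?_, rfl, h0⟩
  · rw [Fin.cons_injective_iff]
    refine ⟨?_, f.injective⟩
    rintro ⟨i, hi⟩
    have := hf i
    rw [hi] at this
    simp at this
  · intro i
    refine Fin.cases ?_ (fun j => ?_) i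
    · exact ha
    · exact Finset.mem_of_mem_erase (hf j)

theorem exists_emb_ext3 {s : Finset GolayPt} {n : ℕ} (hn : n + 3 ≤ s.card) {a b c : GolayPt}
    (ha : a ∈ s) (hb : b ∈ s) (hc : c ∈ s) (hab : a ≠ b) (hac : a ≠ c) (hbc : b ≠ c) :
    ∃ f : Fin (n + 3) ↪ GolayPt, (∀ i, f i ∈ s) ∧ f 0 = a ∧ f 1 = b ∧ f 2 = c := by
  obtain ⟨f, hf, h0, h1⟩ := exists_emb_ext2 (s := s.erase a) (n := n)
    (by rw [Finset.card_erase_of_mem ha]; omega) (Finset.mem_erase.2 ⟨Ne.symm hab, hb⟩)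
    (Finset.mem_erase.2 ⟨Ne.symm hac, hc⟩) hbc
  refine ⟨⟨Fin.cons a f, ?_⟩, ?_, rfl, h0, h1⟩
  · rw [Fin.cons_injective_iff]
    refine ⟨?_, f.injective⟩
    rintro ⟨i, hi⟩
    have := hf i
    rw [hi] at this
    simp at this
  · intro i
    refine Fin.cases ?_ (fun j => ?_) i
    · exact ha
    · exact Finset.mem_of_mem_erase (hf j)

/-- the stabiliser of a set and a point -/
def st1 (s : Finset GolayPt) (p : GolayPt) : Subgroup (Equiv.Perm GolayPt) :=
  st s ⊓ MulAction.stabilizer (Equiv.Perm GolayPt) p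

theorem mem_st1 {s : Finset GolayPt} {p : GolayPt} {g : Equiv.Perm GolayPt} :
    g ∈ st1 s p ↔ g ∈ st s ∧ g p = p := Iff.rfl

theorem card_M11 {d : Finset GolayPt} (hd : d ∈ dodecads) {p : GolayPt} (hp : p ∈ d) :
    Nat.card (st1 d p) = 7920 := by
  have h1 := card_eq_orbit_mul (st d) p
  have h2 : MulAction.orbit (st d) p = (d : Set GolayPt) := by
    apply orbit_eq
    · intro g hg
      exact (smul_mem_of_st hg).2 hp
    · intro q hq
      obtain ⟨f, hf, h0⟩ := exists_emb_ext (s := d) (n := 4) (by rw [card_dodecad hd]; norm_num) hp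
      obtain ⟨f', hf', h0'⟩ := exists_emb_ext (s := d) (n := 4)
        (by rw [card_dodecad hd]; norm_num) (a := q) hq
      obtain ⟨g, hg, h⟩ := dod_five_trans hd f f' hf hf'
      refine ⟨g, hg, ?_⟩
      have := h 0
      rw [h0, h0'] at this
      exact this
  rw [h2, card_st_dodecad hd, Set.ncard_coe_finset, card_dodecad hd] at h1
  change 95040 = 12 * Nat.card (st1 d p) at h1
  omega

end CfsgL.Golay
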