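import Cfsg.Agent.L.Golay.M12
/-!
Simplicity of `M11` and `M12`.
-/
set_option autoImplicit false
namespace CfsgL.Golay
open Cfsg CfsgL.Comp
open scoped Pointwise

/-- the subgroup generated by elements of order dividing `k` -/
def KK (k : ℕ) (G : Subgroup (Equiv.Perm GolayPt)) : Subgroup (Equiv.Perm GolayPt) :=
  Subgroup.closure {u | u ∈ G ∧ u ^ k = 1}

theorem KK_mono (k : ℕ) {G G' : Subgroup (Equiv.Perm GolayPt)} (h : G' ≤ G) : KK k G' ≤ KK k G :=
  Subgroup.closure_mono (fun _ hu => ⟨h hu.1, hu.2⟩)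

theorem KK_step (k : ℕ) (G : Subgroup (Equiv.Perm GolayPt)) (b : GolayPt)
    (h1 : ∀ g ∈ G, ∃ u ∈ G, u ^ k = 1 ∧ u b = g b)
    (h2 : G ⊓ MulAction.stabilizer (Equiv.Perm GolayPt) b ≤
      KK k (G ⊓ MulAction.stabilizer (Equiv.Perm GolayPt) b)) : G ≤ KK k G := by
  intro g hg
  obtain ⟨u, hu, hu24, hub⟩ := h1 g hg
  have h3 : u⁻¹ * g ∈ G ⊓ MulAction.stabilizer (Equiv.Perm GolayPt) b := by
    rw [Subgroup.mem_inf]
    refine ⟨G.mul_mem (G.inv_mem hu) hg, ?_⟩
    rw [MulAction.mem_stabilizer_iff]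
    change u⁻¹ (g b) = b
    rw [← hub]; simp
  have h4 := KK_mono k inf_le_left (h2 h3)
  have h5 : u ∈ KK k G := Subgroup.subset_closure ⟨hu, hu24⟩
  have := (KK k G).mul_mem h5 h4
  rwa [mul_inv_cancel_left] at this

/-- generation statement inside the subgroup type -/
theorem KK_sub {k : ℕ} {G : Subgroup (Equiv.Perm GolayPt)} (h : G ≤ KK k G) :
    Subgroup.closure {u : G | u ^ k = 1} = ⊤ := by
  rw [eq_top_iff]
  intro g _
  have h1 := h g.2
  have h2 : (Subgroup.closure {u : G | u ^ k = 1}).map G.subtype = KK k G := by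
    rw [MonoidHom.map_closure]
    congr 1
    ext u
    constructor
    · rintro ⟨v, hv, rfl⟩
      exact ⟨v.2, by rw [Set.mem_ofPred_eq] at hv; exact congrArg Subtype.val hv⟩
    · rintro ⟨hu, hu'⟩
      exact ⟨⟨u, hu⟩, Subtype.ext hu', rfl⟩
  rw [← h2] at h1
  obtain ⟨v, hv, hvg⟩ := h1
  have : v = g := Subtype.ext hvg
  rwa [this] at hv

/-- an invariant subset as an action -/
def OmS (G : Subgroup (Equiv.Perm GolayPt)) (S : Finset GolayPt) (h : ∀ g ∈ G, ∀ p ∈ S, g p ∈ S) :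
    SubMulAction G GolayPt where
  carrier := {q | q ∈ S}
  smul_mem' g _ hq := h g g.2 _ hq

theorem OmS_two_trans (G : Subgroup (Equiv.Perm GolayPt)) (S : Finset GolayPt)
    (h : ∀ g ∈ G, ∀ p ∈ S, g p ∈ S)
    (h2 : ∀ a b c d : GolayPt, a ∈ S → b ∈ S → c ∈ S → d ∈ S → a ≠ b → c ≠ d →
      ∃ g ∈ G, g a = c ∧ g b = d) : MulAction.IsMultiplyPretransitive G (OmS G S h) 2 := by
  rw [MulAction.is_two_pretransitive_iff]
  intro a b c d hab hcd
  obtain ⟨g, hg, h1, h2⟩ := h2 a b c d a.2 b.2 c.2 d.2 (fun h' => hab (Subtype.ext h'))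
    (fun h' => hcd (Subtype.ext h'))
  exact ⟨⟨g, hg⟩, Subtype.ext h1, Subtype.ext h2⟩

theorem OmS_faithful (G : Subgroup (Equiv.Perm GolayPt)) (S : Finset GolayPt)
    (h : ∀ g ∈ G, ∀ p ∈ S, g p ∈ S) (hf : ∀ g ∈ G, (∀ p ∈ S, g p = p) → g = 1) :
    FaithfulSMul G (OmS G S h) := by
  constructor
  intro a b hab
  have h1 : ∀ p ∈ S, (b⁻¹ * a : Equiv.Perm GolayPt) p = p := by
    intro p hp
    have := congrArg Subtype.val (hab ⟨p, hp⟩)
    have e : a.1 p = b.1 p := this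
    rw [Equiv.Perm.mul_apply, e]; simp
  have h2 := hf _ (G.mul_mem (G.inv_mem b.2) a.2) h1
  exact Subtype.ext (inv_mul_eq_one.1 h2).symm

theorem card_OmS (G : Subgroup (Equiv.Perm GolayPt)) (S : Finset GolayPt)
    (h : ∀ g ∈ G, ∀ p ∈ S, g p ∈ S) : Nat.card (OmS G S h) = S.card := by
  rw [← Set.ncard_coe_finset]; rfl

/-! ### Chain for the base dodecad -/

/-- entries fix `D0` -/
def trD (l : List (ℕ × ℕ)) : Bool := l.all (fun x => Nat.beq (img x.1 0x5335f) 0x5335f)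

/-- membership in a set given by a mask -/
def inMask (m : ℕ) (l : List ℕ) (q : ℕ) : Bool := Bool.and (Nat.testBit m q) (notIn l q)

theorem tmOK0 : trOK [] tm0 = true := by decide +kernel
theorem tmOK1 : trOK [0] tm1 = true := by decide +kernel
theorem tmOK2 : trOK [0, 1] tm2 = true := by decide +kernel
theorem tmOK3 : trOK [0, 1, 2] tm3 = true := by decide +kernel
theorem tmOK4 : trOK [0, 1, 2, 3] tm4 = true := by decide +kernel
theorem tmCov0 : trCov 0 (inMask 0x5335f []) tm0 = true := by decide +kernel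
theorem tmCov1 : trCov 1 (inMask 0x5335f [0]) tm1 = true := by decide +kernel
theorem tmCov2 : trCov 2 (inMask 0x5335f [0, 1]) tm2 = true := by decide +kernel
theorem tmCov3 : trCov 3 (inMask 0x5335f [0, 1, 2]) tm3 = true := by decide +kernel
theorem tmCov4 : trCov 4 (inMask 0x5335f [0, 1, 2, 3]) tm4 = true := by decide +kernel
theorem tmOrd0 : trOrd 264 tm0 = true := by decide +kernel
theorem tmOrd1 : trOrd 264 tm1 = true := by decide +kernel
theorem tmOrd2 : trOrd 264 tm2 = true := by decide +kernel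
theorem tmOrd3 : trOrd 264 tm3 = true := by decide +kernel
theorem tmOrd4 : trOrd 264 tm4 = true := by decide +kernel
theorem tmD0 : trD tm0 = true := by decide +kernel
theorem tmD1 : trD tm1 = true := by decide +kernel
theorem tmD2 : trD tm2 = true := by decide +kernel
theorem tmD3 : trD tm3 = true := by decide +kernel
theorem tmD4 : trD tm4 = true := by decide +kernel

/-- one step of the chain for the base dodecad -/
theorem tm_exists {fx : List ℕ} {l : List (ℕ × ℕ)} {b k : ℕ} {f : ℕ → Bool}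
    (h1 : trOK fx l = true) (h2 : trCov b f l = true) (h3 : trOrd k l = true)
    (h4 : trD l = true) (hb : b < 24) (q : GolayPt) (hq : f (toIdx q) = true) :
    ∃ g ∈ st D0, (∀ i ∈ fx, ∀ p, toIdx p = i → g p = p) ∧ g (ofIdx b) = q ∧ g ^ k = 1 := by
  obtain ⟨x, hx, h, hm, e1, e2⟩ := table_entry h1 h2 hb q hq
  unfold trOrd at h3
  rw [List.all_eq_true] at h3
  unfold trD at h4
  rw [List.all_eq_true] at h4
  refine ⟨_, mem_st.2 ⟨hm, ?_⟩, e1, e2, pow_eq_one_of_ordOK h (h3 x hx)⟩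
  have := natBeq_iff.1 (h4 x hx)
  unfold D0
  rw [← mset_img h, this]

theorem mem_D0 {p : GolayPt} : p ∈ D0 ↔ Nat.testBit 0x5335f (toIdx p) = true := mem_mset

theorem D0_five : ∀ p ∈ [bp 0, bp 1, bp 2, bp 3, bp 4], p ∈ D0 := by decide +kernel

theorem M12_base_trivial {g : Equiv.Perm GolayPt} (hg : g ∈ st D0) (h0 : g (bp 0) = bp 0)
    (h1 : g (bp 1) = bp 1) (h2 : g (bp 2) = bp 2) (h3 : g (bp 3) = bp 3) (h4 : g (bp 4) = bp 4) :
    g = 1 := by
  let y : Fin 5 ↪ GolayPt := ⟨fun i => ![bp 0, bp 1, bp 2, bp 3, bp 4] i, by decide +kernel⟩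
  apply sharp D0_mem y _ hg
  · intro i; fin_cases i <;> assumption
  · intro i
    apply D0_five
    fin_cases i <;> simp [y]

theorem ne_of_fixed {g : Equiv.Perm GolayPt} {a b : GolayPt} (h : g a = a) (hab : b ≠ a) : g b ≠ a := by
  intro h'
  rw [← h] at h'
  exact hab (g.injective h')

/-- all the chain steps: `M11` at the base is generated by elements of order dividing 264 -/
theorem gen_M11 : st1 D0 (bp 0) ≤ KK 264 (st1 D0 (bp 0)) := by
  have sb : ∀ (g : Equiv.Perm GolayPt) (p : GolayPt),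
      g ∈ MulAction.stabilizer (Equiv.Perm GolayPt) p ↔ g p = p := fun g p => Iff.rfl
  have n0 : ∀ (q : GolayPt) (l : List ℕ), q ∈ D0 → (∀ i ∈ l, toIdx q ≠ i) →
      inMask 0x5335f l (toIdx q) = true := by
    intro q l hq hl
    unfold inMask notIn
    rw [Bool.and_eq_true, List.all_eq_true]
    refine ⟨mem_D0.1 hq, fun i hi => ?_⟩
    have : Nat.beq i (toIdx q) = false := by
      rw [← Bool.not_eq_true, natBeq_iff]; exact fun h => hl i hi h.symm
    rw [this]; rfl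
  have ti : ∀ (q : GolayPt) (i : ℕ), i < 24 → q ≠ bp i → toIdx q ≠ i := by
    intro q i hi hne h
    apply hne
    rw [← toIdx_inj, h]; exact (toIdx_ofIdx hi).symm
  refine KK_step 264 _ (bp 1) ?_ ?_
  · intro g hg
    obtain ⟨hg1, hg2⟩ := mem_st1.1 hg
    obtain ⟨u, hu, e1, e2, e3⟩ := tm_exists tmOK1 tmCov1 tmOrd1 tmD1 (by norm_num) (g (bp 1))
      (n0 _ _ ((smul_mem_of_st hg1).2 (D0_five _ (by simp))) (by
        intro i hi
        simp only [List.mem_cons, List.not_mem_nil, or_false] at hi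
        subst hi
        exact ti _ _ (by norm_num) (ne_of_fixed hg2 (by decide +kernel))))
    exact ⟨u, mem_st1.2 ⟨hu, e1 0 (by simp) (bp 0) rfl⟩, e3, e2⟩
  refine KK_step 264 _ (bp 2) ?_ ?_
  · intro g hg
    simp only [Subgroup.mem_inf, mem_st1, sb] at hg
    obtain ⟨⟨hg1, hg2⟩, hg3⟩ := hg
    obtain ⟨u, hu, e1, e2, e3⟩ := tm_exists tmOK2 tmCov2 tmOrd2 tmD2 (by norm_num) (g (bp 2))
      (n0 _ _ ((smul_mem_of_st hg1).2 (D0_five _ (by simp))) (by
        intro i hi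
        simp only [List.mem_cons, List.not_mem_nil, or_false] at hi
        rcases hi with rfl | rfl
        · exact ti _ _ (by norm_num) (ne_of_fixed hg2 (by decide +kernel))
        · exact ti _ _ (by norm_num) (ne_of_fixed hg3 (by decide +kernel))))
    refine ⟨u, ?_, e3, e2⟩
    simp only [Subgroup.mem_inf, mem_st1, sb]
    exact ⟨⟨hu, e1 0 (by simp) (bp 0) rfl⟩, e1 1 (by simp) (bp 1) rfl⟩
  refine KK_step 264 _ (bp 3) ?_ ?_
  · intro g hg
    simp only [Subgroup.mem_inf, mem_st1, sb] at hg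
    obtain ⟨⟨⟨hg1, hg2⟩, hg3⟩, hg4⟩ := hg
    obtain ⟨u, hu, e1, e2, e3⟩ := tm_exists tmOK3 tmCov3 tmOrd3 tmD3 (by norm_num) (g (bp 3))
      (n0 _ _ ((smul_mem_of_st hg1).2 (D0_five _ (by simp))) (by
        intro i hi
        simp only [List.mem_cons, List.not_mem_nil, or_false] at hi
        rcases hi with rfl | rfl | rfl
        · exact ti _ _ (by norm_num) (ne_of_fixed hg2 (by decide +kernel))
        · exact ti _ _ (by norm_num) (ne_of_fixed hg3 (by decide +kernel))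
        · exact ti _ _ (by norm_num) (ne_of_fixed hg4 (by decide +kernel))))
    refine ⟨u, ?_, e3, e2⟩
    simp only [Subgroup.mem_inf, mem_st1, sb]
    exact ⟨⟨⟨hu, e1 0 (by simp) (bp 0) rfl⟩, e1 1 (by simp) (bp 1) rfl⟩, e1 2 (by simp) (bp 2) rfl⟩
  refine KK_step 264 _ (bp 4) ?_ ?_
  · intro g hg
    simp only [Subgroup.mem_inf, mem_st1, sb] at hg
    obtain ⟨⟨⟨⟨hg1, hg2⟩, hg3⟩, hg4⟩, hg5⟩ := hg
    obtain ⟨u, hu, e1, e2, e3⟩ := tm_exists tmOK4 tmCov4 tmOrd4 tmD4 (by norm_num) (g (bp 4))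
      (n0 _ _ ((smul_mem_of_st hg1).2 (D0_five _ (by simp))) (by
        intro i hi
        simp only [List.mem_cons, List.not_mem_nil, or_false] at hi
        rcases hi with rfl | rfl | rfl | rfl
        · exact ti _ _ (by norm_num) (ne_of_fixed hg2 (by decide +kernel))
        · exact ti _ _ (by norm_num) (ne_of_fixed hg3 (by decide +kernel))
        · exact ti _ _ (by norm_num) (ne_of_fixed hg4 (by decide +kernel))
        · exact ti _ _ (by norm_num) (ne_of_fixed hg5 (by decide +kernel))))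
    refine ⟨u, ?_, e3, e2⟩
    simp only [Subgroup.mem_inf, mem_st1, sb]
    exact ⟨⟨⟨⟨hu, e1 0 (by simp) (bp 0) rfl⟩, e1 1 (by simp) (bp 1) rfl⟩,
      e1 2 (by simp) (bp 2) rfl⟩, e1 3 (by simp) (bp 3) rfl⟩
  intro g hg
  simp only [Subgroup.mem_inf, mem_st1, sb] at hg
  obtain ⟨⟨⟨⟨⟨hg1, hg2⟩, hg3⟩, hg4⟩, hg5⟩, hg6⟩ := hg
  rw [M12_base_trivial hg1 hg2 hg3 hg4 hg5 hg6]
  exact one_mem _

theorem S2_st : S2 ∈ st D0 := by
  refine mem_st.2 ⟨S2_mem, ?_⟩
  have : Agrees S2 (pack (fun i => toIdx (S2 (ofIdx i)))) := agrees_pack (fun i _ => rfl)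
  unfold D0
  rw [← this.mset_img]
  congr 1

theorem D0_cases : ∀ p ∈ D0, p = some 0 ∨ ∃ k < 11, p = some (2 ^ k * 1) := by decide +kernel

theorem comm_S2_M11 {g : Equiv.Perm GolayPt} (hg : g ∈ st D0) (h0 : g (some 0) = some 0)
    (h : g * S2 = S2 * g) : ∃ k : ℕ, g = S2 ^ k := by
  have h1 : g (some 1) ∈ D0 := (smul_mem_of_st hg).2 (by decide +kernel)
  rcases D0_cases _ h1 with h2 | ⟨k, _, h2⟩
  · exact absurd (g.injective (h2.trans h0.symm)) (by decide)
  refine ⟨k, ?_⟩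
  have hk : ∀ j : ℕ, g * S2 ^ j = S2 ^ j * g := fun j => Commute.pow_right h j
  have h3 : ∀ j : ℕ, g (some (2 ^ j * 1)) = (S2 ^ k) (some (2 ^ j * 1)) := by
    intro j
    have e := congrArg (fun g => g (some 1)) (hk j)
    simp only [Equiv.Perm.mul_apply] at e
    rw [S2_pow_some, h2, S2_pow_some] at e
    rw [e, S2_pow_some]; ring_nf
  have h4 : (S2 ^ k)⁻¹ * g = 1 := by
    have hall : ∀ p ∈ D0, ((S2 ^ k)⁻¹ * g) p = p := by
      intro p hp
      rw [Equiv.Perm.mul_apply, Equiv.Perm.inv_eq_iff_eq]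
      rcases D0_cases _ hp with rfl | ⟨j, _, rfl⟩
      · rw [h0, S2_pow_some, mul_zero]
      · exact h3 j
    obtain ⟨f, hf⟩ := exists_emb (s := D0) (n := 5) (by rw [card_dodecad D0_mem]; norm_num)
    exact sharp D0_mem f hf ((st D0).mul_mem ((st D0).inv_mem ((st D0).pow_mem S2_st k)) hg)
      (fun i => hall _ (hf i))
  exact (inv_mul_eq_one.1 h4).symm

/-- inversion on `ZMod 23`, with `0 ↦ 0`, packed -/
def pInv23 : ℕ := pack (fun i => if i < 23 then i ^ 21 % 23 else i)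

theorem not_inv_S2_M11 {g : Equiv.Perm GolayPt} (hg : g ∈ st D0) (h0 : g (some 0) = some 0)
    (h : g * S2 * g⁻¹ = S2⁻¹) : False := by
  have h1 : g (some 1) ∈ D0 := (smul_mem_of_st hg).2 (by decide +kernel)
  rcases D0_cases _ h1 with h2 | ⟨k, _, h2⟩
  · exact absurd (g.injective (h2.trans h0.symm)) (by decide)
  -- replace g by S2^{-k} g
  set u := (S2 ^ k)⁻¹ * g with hu
  have hust : u ∈ st D0 := (st D0).mul_mem ((st D0).inv_mem ((st D0).pow_mem S2_st k)) hg
  have hu0 : u (some 0) = some 0 := by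
    rw [hu, Equiv.Perm.mul_apply, h0, Equiv.Perm.inv_eq_iff_eq, S2_pow_some, mul_zero]
  have hu1 : u (some 1) = some 1 := by
    rw [hu, Equiv.Perm.mul_apply, h2, Equiv.Perm.inv_eq_iff_eq, S2_pow_some]
  have h' : S2 * u * S2 = u := by
    have e1 : g * S2 = S2⁻¹ * g := by rw [← h]; group
    have e2 : S2 * (S2 ^ k)⁻¹ = (S2 ^ k)⁻¹ * S2 := by
      have : Commute S2 (S2 ^ k)⁻¹ := (Commute.self_pow S2 k).inv_right
      exact this
    calc S2 * u * S2 = (S2 * (S2 ^ k)⁻¹) * (g * S2) := by rw [hu]; group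
      _ = (S2 ^ k)⁻¹ * S2 * (S2⁻¹ * g) := by rw [e2, e1]
      _ = u := by rw [hu]; group
  have hk : ∀ k : ℕ, S2 ^ k * u * S2 ^ k = u := by
    intro k
    induction k with
    | zero => simp
    | succ k ih =>
      have : S2 ^ (k + 1) * u * S2 ^ (k + 1) = S2 ^ k * (S2 * u * S2) * S2 ^ k := by
        rw [pow_succ]
        have : S2 ^ k * S2 = S2 * S2 ^ k := (Commute.pow_self S2 k)
        nth_rewrite 2 [this]
        group
      rw [this, h', ih]
  have hinv : ∀ k : ℕ, (2 : ZMod 23) ^ k * 12 ^ k = 1 := by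
    intro k
    rw [← mul_pow]
    have : (2 * 12 : ZMod 23) = 1 := by decide
    rw [this, one_pow]
  have h3 : ∀ j : ℕ, u (some (2 ^ j * 1)) = some (12 ^ j * 1) := by
    intro j
    have e := congrArg (fun g => g (some 1)) (hk j)
    simp only [Equiv.Perm.mul_apply] at e
    rw [S2_pow_some, hu1] at e
    have hm : u (some (2 ^ j * 1)) ∈ D0 := by
      apply (smul_mem_of_st hust).2
      have := (smul_mem_of_st ((st D0).pow_mem S2_st j)).2 (show (some 1 : GolayPt) ∈ D0 by decide +kernel)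
      rwa [S2_pow_some] at this
    have : ∃ y, u (some (2 ^ j * 1)) = some y := by
      rcases D0_cases _ hm with h | ⟨_, _, h⟩ <;> exact ⟨_, h⟩
    obtain ⟨y, hy⟩ := this
    rw [hy, S2_pow_some] at e
    rw [hy, ← Option.some.inj e, ← mul_assoc, mul_comm (12 ^ j), hinv, one_mul]
  -- the octad `0x149f`
  have ho : mset 0x149f ∈ octads := mem_octads_mset (by decide +kernel) (by decide +kernel)
  have h5 := (smul_octad (mem_st.1 hust).1).2 ho
  have h6 : u • mset 0x149f ∩ D0 = mset 0x1147 := by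
    have e1 : u • mset 0x149f ∩ D0 = u • (mset 0x149f ∩ D0) := by
      rw [Finset.smul_finset_inter, (mem_st.1 hust).2]
    have e2 : mset 0x149f ∩ D0 = mset 0x101f := by
      unfold D0; rw [← mset_and]; rfl
    rw [e1, e2]
    have key : ∀ p ∈ mset 0x101f, p = some 0 ∨ ∃ j < 11, p = some (2 ^ j * 1) ∧
        some (12 ^ j * 1) ∈ mset 0x1147 := by decide +kernel
    apply Finset.eq_of_subset_of_card_le
    · intro p hp
      rw [Finset.mem_smul_finset] at hp
      obtain ⟨q, hq, rfl⟩ := hp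
      rw [Equiv.Perm.smul_def]
      rcases key q hq with rfl | ⟨j, _, rfl, hj⟩
      · rw [hu0]; decide +kernel
      · rw [h3 j]; exact hj
    · rw [card_smul_finset', card_mset, card_mset]; decide +kernel
  obtain ⟨h7, h8⟩ := mem_octads'.1 h5
  obtain ⟨x, hx, hxe⟩ := mem_supports.1 h7
  rw [hxe] at h8
  rw [hxe] at h6
  unfold D0 at h6
  rw [← mset_and, mset_inj (lt_of_le_of_lt Nat.and_le_left (enc_lt x)) (by norm_num)] at h6
  have key : allD (fun x => force (enc x) (fun m => Bool.not (Bool.and (Nat.beq (pop24 m) 8)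
      (Nat.beq (Nat.land m 0x5335f) 0x1147)))) 12 0 = true := by decide +kernel
  have h9 := allD_lt key hx
  rw [force_eq] at h9
  have e3 : Nat.beq (pop24 (enc x)) 8 = true := by rw [natBeq_iff, ← card_mset, h8]
  have e4 : Nat.beq (Nat.land (enc x) 0x5335f) 0x1147 = true := by rw [natBeq_iff]; exact h6
  rw [e3, e4] at h9
  exact absurd h9 (by simp)

/-- two-transitivity of the point stabiliser on the remaining eleven points -/
theorem M11_two_trans {d : Finset GolayPt} (hd : d ∈ dodecads) {p a b a' b' : GolayPt}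
    (hp : p ∈ d) (ha : a ∈ d) (hb : b ∈ d) (ha' : a' ∈ d) (hb' : b' ∈ d) (hpa : p ≠ a)
    (hpb : p ≠ b) (hab : a ≠ b) (hpa' : p ≠ a') (hpb' : p ≠ b') (hab' : a' ≠ b') :
    ∃ g ∈ st1 d p, g a = a' ∧ g b = b' := by
  obtain ⟨f, hf, e0, e1, e2⟩ := exists_emb_ext3 (s := d) (n := 2)
    (by rw [card_dodecad hd]; norm_num) hp ha hb hpa hpb hab
  obtain ⟨f', hf', e0', e1', e2'⟩ := exists_emb_ext3 (s := d) (n := 2)
    (by rw [card_dodecad hd]; norm_num) hp ha' hb' hpa' hpb' hab'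
  obtain ⟨g, hg, h⟩ := dod_five_trans hd f f' hf hf'
  refine ⟨g, mem_st1.2 ⟨hg, ?_⟩, ?_, ?_⟩
  · have := h 0; rwa [e0, e0'] at this
  · have := h 1; rwa [e1, e1'] at this
  · have := h 2; rwa [e2, e2'] at this

theorem M11_simple_base : IsSimpleGroup (st1 D0 (bp 0)) := by
  haveI : Fact (Nat.Prime 11) := ⟨by norm_num⟩
  have hT : S2 ∈ st1 D0 (bp 0) := mem_st1.2 ⟨S2_st, rfl⟩
  have hord : orderOf (⟨S2, hT⟩ : st1 D0 (bp 0)) = 11 := by
    apply orderOf_eq_prime
    · exact Subtype.ext S2_pow_11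
    · intro h; exact S2_ne (congrArg Subtype.val h)
  have hb0 : bp 0 ∈ D0 := D0_five _ (by simp)
  refine CfsgL.simple_of_sylow 11 5 264 (by norm_num) (by norm_num) ⟨S2, hT⟩ hord ?_ ?_ ?_
    (KK_sub gen_M11) ?_
  · rw [card_M11 D0_mem hb0]; norm_num
  · intro g hg
    have h1 : (g : Equiv.Perm GolayPt) * S2 = S2 * g := congrArg Subtype.val hg
    obtain ⟨k, hk⟩ := comm_S2_M11 (mem_st1.1 g.2).1 (mem_st1.1 g.2).2 h1
    rw [Subgroup.mem_zpowers_iff]
    refine ⟨k, ?_⟩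
    apply Subtype.ext
    rw [hk]; simp
  · intro g hg
    exact not_inv_S2_M11 (mem_st1.1 g.2).1 (mem_st1.1 g.2).2 (congrArg Subtype.val hg)
  · intro N hN hNb
    have hinv : ∀ g ∈ st1 D0 (bp 0), ∀ p ∈ D0.erase (bp 0), g p ∈ D0.erase (bp 0) := by
      intro g hg p hp
      obtain ⟨h1, h2⟩ := mem_st1.1 hg
      rw [Finset.mem_erase] at hp ⊢
      exact ⟨ne_of_fixed h2 hp.1, (smul_mem_of_st h1).2 hp.2⟩
    have h2 : MulAction.IsMultiplyPretransitive (st1 D0 (bp 0))
        (OmS (st1 D0 (bp 0)) (D0.erase (bp 0)) hinv) 2 := by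
      apply OmS_two_trans
      intro a b c d ha hb hc hd hab hcd
      rw [Finset.mem_erase] at ha hb hc hd
      exact M11_two_trans D0_mem hb0 ha.2 hb.2 hc.2 hd.2 (Ne.symm ha.1) (Ne.symm hb.1) hab
        (Ne.symm hc.1) (Ne.symm hd.1) hcd
    haveI : Nonempty (OmS (st1 D0 (bp 0)) (D0.erase (bp 0)) hinv) := ⟨⟨bp 1, by
      change bp 1 ∈ D0.erase (bp 0); decide +kernel⟩⟩
    haveI : FaithfulSMul (st1 D0 (bp 0)) (OmS (st1 D0 (bp 0)) (D0.erase (bp 0)) hinv) := by
      apply OmS_faithful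
      intro g hg h
      obtain ⟨f, hf⟩ := exists_emb (s := D0.erase (bp 0)) (n := 5) (by
        rw [Finset.card_erase_of_mem hb0, card_dodecad D0_mem]; norm_num)
      exact sharp D0_mem f (fun i => Finset.mem_of_mem_erase (hf i)) (mem_st1.1 hg).1
        (fun i => h _ (hf i))
    have h3 := degree_dvd_normal h2 N hNb
    rw [card_OmS, Finset.card_erase_of_mem hb0, card_dodecad D0_mem] at h3
    exact h3

/-- conjugation of stabilisers of a set and a point -/
def st1Map {g : Equiv.Perm GolayPt} (hg : g ∈ M24) (s : Finset GolayPt) (p : GolayPt) :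
    st1 s p ≃* st1 (g • s) (g p) where
  toFun h := ⟨g * h.1 * g⁻¹, by
    obtain ⟨h1, h2⟩ := mem_st1.1 h.2
    obtain ⟨h3, h4⟩ := mem_st.1 h1
    refine mem_st1.2 ⟨mem_st.2 ⟨M24.mul_mem (M24.mul_mem hg h3) (M24.inv_mem hg), ?_⟩, ?_⟩
    · rw [mul_smul, mul_smul, inv_smul_smul, h4]
    · simp [h2]⟩
  invFun h := ⟨g⁻¹ * h.1 * g, by
    obtain ⟨h1, h2⟩ := mem_st1.1 h.2
    obtain ⟨h3, h4⟩ := mem_st.1 h1
    refine mem_st1.2 ⟨mem_st.2 ⟨M24.mul_mem (M24.mul_mem (M24.inv_mem hg) h3) hg, ?_⟩, ?_⟩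
    · rw [mul_smul, mul_smul, h4, inv_smul_smul]
    · simp [h2]⟩
  left_inv h := by ext; simp
  right_inv h := by ext; simp
  map_mul' h k := by
    apply Subtype.ext
    change g * (h.1 * k.1) * g⁻¹ = (g * h.1 * g⁻¹) * (g * k.1 * g⁻¹)
    group

theorem flag_trans {d d' : Finset GolayPt} (hd : d ∈ dodecads) (hd' : d' ∈ dodecads)
    {p p' : GolayPt} (hp : p ∈ d) (hp' : p' ∈ d') : ∃ g ∈ M24, g • d = d' ∧ g p = p' := by
  obtain ⟨g, hg, rfl⟩ := dodecad_trans hd hd'
  obtain ⟨f, hf, e⟩ := exists_emb_ext (s := g • d) (n := 4) (by rw [card_dodecad hd']; norm_num)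
    (Finset.smul_mem_smul_finset (a := g) hp)
  obtain ⟨f', hf', e'⟩ := exists_emb_ext (s := g • d) (n := 4)
    (by rw [card_dodecad hd']; norm_num) hp'
  obtain ⟨k, hk, h⟩ := dod_five_trans hd' f f' hf hf'
  obtain ⟨h1, h2⟩ := mem_st.1 hk
  refine ⟨k * g, M24.mul_mem h1 hg, by rw [mul_smul, h2], ?_⟩
  have := h 0
  rw [e, e'] at this
  exact this

theorem M11_simple {d : Finset GolayPt} (hd : d ∈ dodecads) {p : GolayPt} (hp : p ∈ d) :
    IsSimpleGroup (st1 d p) := by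
  obtain ⟨g, hg, rfl, rfl⟩ := flag_trans D0_mem hd (D0_five (bp 0) (by simp)) hp
  exact (st1Map hg D0 (bp 0)).isSimpleGroup_congr.1 M11_simple_base

theorem M12_simple {d : Finset GolayPt} (hd : d ∈ dodecads) : IsSimpleGroup (st d) := by
  have hinv : ∀ g ∈ st d, ∀ p ∈ d, g p ∈ d := fun g hg p hp => (smul_mem_of_st hg).2 hp
  haveI h2 : MulAction.IsMultiplyPretransitive (st d) (OmS (st d) d hinv) 2 := by
    apply OmS_two_trans
    intro a b a' b' ha hb ha' hb' hab hab'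
    obtain ⟨f, hf, e1, e2⟩ := exists_emb_ext2 (s := d) (n := 3)
      (by rw [card_dodecad hd]; norm_num) ha hb hab
    obtain ⟨f', hf', e1', e2'⟩ := exists_emb_ext2 (s := d) (n := 3)
      (by rw [card_dodecad hd]; norm_num) ha' hb' hab'
    obtain ⟨g, hg, h⟩ := dod_five_trans hd f f' hf hf'
    refine ⟨g, hg, ?_, ?_⟩
    · have := h 0; rwa [e1, e1'] at this
    · have := h 1; rwa [e2, e2'] at this
  haveI : FaithfulSMul (st d) (OmS (st d) d hinv) := by
    apply OmS_faithful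
    intro g hg h
    obtain ⟨f, hf⟩ := exists_emb (s := d) (n := 5) (by rw [card_dodecad hd]; norm_num)
    exact sharp hd f hf hg (fun i => h _ (hf i))
  obtain ⟨p, hp⟩ : d.Nonempty := Finset.card_pos.1 (by rw [card_dodecad hd]; norm_num)
  have e : MulAction.stabilizer (st d) (⟨p, hp⟩ : OmS (st d) d hinv) ≃* st1 d p := by
    have h1 : MulAction.stabilizer (st d) (⟨p, hp⟩ : OmS (st d) d hinv) =
        (st1 d p).subgroupOf (st d) := by
      ext g
      rw [Subgroup.mem_subgroupOf, MulAction.mem_stabilizer_iff, mem_st1]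
      constructor
      · intro h; exact ⟨g.2, congrArg Subtype.val h⟩
      · intro h; exact Subtype.ext h.2
    rw [h1]
    exact Subgroup.subgroupOfEquivOfLe inf_le_left
  refine CfsgL.simple_of_two_transitive (⟨p, hp⟩ : OmS (st d) d hinv)
    (e.isSimpleGroup_congr.2 (M11_simple hd hp)) 2 3 (by norm_num) (by norm_num) (by norm_num) ?_ ?_
  · rw [card_OmS, card_dodecad hd]; norm_num
  · rw [card_OmS, card_dodecad hd]; norm_num

end CfsgL.Golay
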