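import Cfsg.Agent.L.Golay.Simple3
/-!
Octads: transitivity, `M24` as the automorphism group of the octads, octad fixators.
-/
set_option autoImplicit false
namespace CfsgL.Golay
open Cfsg CfsgL.Comp
open scoped Pointwise

theorem bas_octads : ∀ b ∈ Bas, b < 2 ^ 24 ∧ inCode b = true ∧ pop24 b = 8 := by decide +kernel

theorem M24_eq_octads : M24 = setSystemAut octads := by
  ext g
  constructor
  · intro hg
    change g ∈ MulAction.stabilizer (Equiv.Perm GolayPt) octads
    rw [MulAction.mem_stabilizer_iff]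
    apply Set.eq_of_subset_of_ncard_le
    · rintro _ ⟨s, hs, rfl⟩
      exact (smul_octad hg).2 hs
    · exact le_of_eq (Set.ncard_smul_set _ _).symm
    · exact Set.toFinite _
  · intro hg
    change g ∈ MulAction.stabilizer (Equiv.Perm GolayPt) octads at hg
    rw [MulAction.mem_stabilizer_iff] at hg
    apply mem_M24_of_bas
    intro b hb
    obtain ⟨h1, h2, h3⟩ := bas_octads b hb
    have h4 : mset b ∈ octads := mem_octads_mset h2 h3
    have h5 := Set.smul_mem_smul_set (a := g) h4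
    rw [hg] at h5
    exact (mem_octads'.1 h5).1

theorem exists_emb {s : Finset GolayPt} {n : ℕ} (h : n ≤ s.card) :
    ∃ f : Fin n ↪ GolayPt, ∀ i, f i ∈ s := by
  obtain ⟨t, ht, htc⟩ := Finset.exists_subset_card_eq h
  have e : Fin n ≃ t := (Finset.equivFinOfCardEq htc).symm
  exact ⟨e.toEmbedding.trans (Function.Embedding.subtype _), fun i => ht (e i).2⟩

theorem card_octad {o : Finset GolayPt} (ho : o ∈ octads) : o.card = 8 := (mem_octads'.1 ho).2

/-- two octads sharing five points (given by an embedding) are equal -/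
theorem octad_eq_of_emb {o o' : Finset GolayPt} (ho : o ∈ octads) (ho' : o' ∈ octads)
    (f : Fin 5 ↪ GolayPt) (h : ∀ i, f i ∈ o) (h' : ∀ i, f i ∈ o') : o = o' := by
  apply octad_unique ho ho'
  have h1 : (Finset.univ.map f) ⊆ o ∩ o' := by
    intro p hp
    rw [Finset.mem_map] at hp
    obtain ⟨i, _, rfl⟩ := hp
    exact Finset.mem_inter.2 ⟨h i, h' i⟩
  have h2 := Finset.card_le_card h1
  rw [Finset.card_map, Finset.card_univ, Fintype.card_fin] at h2
  exact h2

theorem octad_trans {o o' : Finset GolayPt} (ho : o ∈ octads) (ho' : o' ∈ octads) :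
    ∃ g ∈ M24, g • o = o' := by
  obtain ⟨x, hx⟩ := exists_emb (s := o) (n := 5) (by rw [card_octad ho]; norm_num)
  obtain ⟨y, hy⟩ := exists_emb (s := o') (n := 5) (by rw [card_octad ho']; norm_num)
  obtain ⟨g, hg, h⟩ := five_trans_emb x y
  refine ⟨g, hg, ?_⟩
  apply octad_eq_of_emb ((smul_octad hg).2 ho) ho' y _ hy
  intro i
  rw [Finset.mem_smul_finset]
  exact ⟨x i, hx i, h i⟩

/-- the base octad -/
def O0 : Finset GolayPt := mset 0x82402f

theorem O0_mem : O0 ∈ octads := mem_octads_mset (by decide +kernel) (by decide +kernel)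

theorem fx6_eq {g : Equiv.Perm GolayPt} (hg : g ∈ fx [bp 5, bp 3, bp 2, bp 1, bp 0, bp 23]) :
    ∃ x ∈ tr6, ∃ h : permOK x.1 x.2 = true, g = toPerm x.1 x.2 h := by
  have h0 := fx6_range hg
  have key : ∀ q : GolayPt, q ∉ mset 0x82402f →
      notIn [23, 0, 1, 2, 3, 5, 14, 17] (toIdx q) = true := by decide +kernel
  have hq := key _ h0
  have h2 := trCov6
  unfold trCov at h2
  rw [allR_iff] at h2
  have h3 := h2 (toIdx (g (bp 4))) (toIdx_lt _)
  rw [hq] at h3
  simp only [Bool.not_true, Bool.false_or, List.any_eq_true, natBeq_iff] at h3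
  obtain ⟨x, hx, h3⟩ := h3
  have h1 := trOK6
  unfold trOK at h1
  rw [List.all_eq_true] at h1
  have h4 := h1 x hx
  simp only [Bool.and_eq_true, List.all_eq_true, natBeq_iff] at h4
  obtain ⟨⟨h5, h6⟩, h7⟩ := h4
  refine ⟨x, hx, h5, ?_⟩
  have h8 : (toPerm x.1 x.2 h5)⁻¹ * g ∈ fx [bp 4, bp 5, bp 3, bp 2, bp 1, bp 0, bp 23] := by
    rw [← fx_cons, Subgroup.mem_inf]
    constructor
    · apply (fx _).mul_mem _ hg
      apply (fx _).inv_mem
      refine ⟨toPerm_mem_M24 h5 h6, ?_⟩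
      intro p hp
      rw [← toIdx_inj, toIdx_toPerm]
      have key : ∀ p ∈ [bp 5, bp 3, bp 2, bp 1, bp 0, bp 23], toIdx p ∈ [23, 0, 1, 2, 3, 5] := by
        decide +kernel
      exact h7 _ (key p hp)
    · rw [MulAction.mem_stabilizer_iff]
      change (toPerm x.1 x.2 h5)⁻¹ (g (bp 4)) = bp 4
      rw [Equiv.Perm.inv_eq_iff_eq, ← toIdx_inj, toIdx_toPerm]
      exact h3.symm
  rw [fx_base_trivial, Subgroup.mem_bot, inv_mul_eq_one] at h8
  exact h8.symm

theorem fx6_props {g : Equiv.Perm GolayPt} (hg : g ∈ fx [bp 5, bp 3, bp 2, bp 1, bp 0, bp 23]) :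
    (∀ p ∈ O0, g p = p) ∧ g * g = 1 := by
  obtain ⟨x, hx, h, rfl⟩ := fx6_eq hg
  have key : ∀ x ∈ tr6, (∀ i < 24, (Nat.testBit 0x82402f i = true → papp x.1 i = i) ∧
      papp x.1 (papp x.1 i) = i) := by decide +kernel
  constructor
  · intro p hp
    rw [← toIdx_inj, toIdx_toPerm]
    exact (key x hx _ (toIdx_lt p)).1 (mem_mset.1 hp)
  · ext p : 1
    rw [← toIdx_inj, Equiv.Perm.mul_apply, toIdx_toPerm, toIdx_toPerm]
    exact (key x hx _ (toIdx_lt p)).2

/-- pointwise stabiliser of a set -/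
def ptst (s : Finset GolayPt) : Subgroup (Equiv.Perm GolayPt) :=
  M24 ⊓ fixingSubgroup (Equiv.Perm GolayPt) (s : Set GolayPt)

theorem mem_ptst {s : Finset GolayPt} {g : Equiv.Perm GolayPt} :
    g ∈ ptst s ↔ g ∈ M24 ∧ ∀ p ∈ s, g p = p := by
  unfold ptst
  rw [Subgroup.mem_inf, mem_fixingSubgroup_iff]
  rfl

theorem ptst_O0 : ptst O0 = fx [bp 5, bp 3, bp 2, bp 1, bp 0, bp 23] := by
  ext g
  rw [mem_ptst, mem_fx]
  constructor
  · rintro ⟨h1, h2⟩
    refine ⟨h1, fun p hp => h2 p ?_⟩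
    have key : ∀ p ∈ [bp 5, bp 3, bp 2, bp 1, bp 0, bp 23], p ∈ O0 := by decide +kernel
    exact key p hp
  · intro h
    exact ⟨h.1, (fx6_props h).1⟩

/-- conjugation of pointwise stabilisers -/
def ptstMap {g : Equiv.Perm GolayPt} (hg : g ∈ M24) (s : Finset GolayPt) :
    ptst s ≃* ptst (g • s) where
  toFun h := ⟨g * h.1 * g⁻¹, by
    rw [mem_ptst]
    refine ⟨M24.mul_mem (M24.mul_mem hg (mem_ptst.1 h.2).1) (M24.inv_mem hg), fun p hp => ?_⟩
    obtain ⟨q, hq, rfl⟩ := Finset.mem_smul_finset.1 hp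
    simp [(mem_ptst.1 h.2).2 q hq]⟩
  invFun h := ⟨g⁻¹ * h.1 * g, by
    rw [mem_ptst]
    refine ⟨M24.mul_mem (M24.mul_mem (M24.inv_mem hg) (mem_ptst.1 h.2).1) hg, fun p hp => ?_⟩
    have := (mem_ptst.1 h.2).2 (g p) (Finset.smul_mem_smul_finset hp)
    simp [this]⟩
  left_inv h := by ext; simp
  right_inv h := by ext; simp
  map_mul' h k := by
    apply Subtype.ext
    change g * (h.1 * k.1) * g⁻¹ = (g * h.1 * g⁻¹) * (g * k.1 * g⁻¹)
    group

theorem ptst_octad {o : Finset GolayPt} (ho : o ∈ octads) :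
    Nat.card (ptst o) = 16 ∧ ∀ g ∈ ptst o, g * g = 1 := by
  obtain ⟨g, hg, rfl⟩ := octad_trans O0_mem ho
  have e := ptstMap hg O0
  have h6 : Nat.card (ptst O0) = 16 := by rw [ptst_O0, card_fx6]
  refine ⟨by rw [← Nat.card_congr e.toEquiv, h6], fun h hh => ?_⟩
  have h1 : e.symm ⟨h, hh⟩ * e.symm ⟨h, hh⟩ = 1 := by
    apply Subtype.ext
    have key : ∀ x : Equiv.Perm GolayPt, x ∈ ptst O0 → x * x = 1 := by
      intro x hx
      rw [ptst_O0] at hx
      exact (fx6_props hx).2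
    exact key _ (e.symm ⟨h, hh⟩).2
  rw [← map_mul, MulEquiv.map_eq_one_iff] at h1
  exact congrArg Subtype.val h1

end CfsgL.Golay
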