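import Cfsg.Agent.L.Golay.Chain
/-!
Order of `M24`, 5-transitivity, pointwise stabilisers.
-/
set_option autoImplicit false
namespace CfsgL.Golay
open Cfsg CfsgL.Comp
open scoped Pointwise

theorem card_eq_orbit_mul {α : Type*} (H : Subgroup (Equiv.Perm α)) (b : α) :
    Nat.card H = (MulAction.orbit H b).ncard *
      Nat.card ↥(H ⊓ MulAction.stabilizer (Equiv.Perm α) b) := by
  have h1 := Subgroup.card_mul_index (MulAction.stabilizer H b)
  rw [MulAction.index_stabilizer] at h1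
  have h2 : Nat.card (MulAction.stabilizer H b) =
      Nat.card ↥(H ⊓ MulAction.stabilizer (Equiv.Perm α) b) := by
    have h3 : MulAction.stabilizer H b = (H ⊓ MulAction.stabilizer (Equiv.Perm α) b).subgroupOf H := by
      ext g
      rw [Subgroup.mem_subgroupOf, MulAction.mem_stabilizer_iff, Subgroup.mem_inf,
        MulAction.mem_stabilizer_iff]
      exact ⟨fun h => ⟨g.2, h⟩, fun h => h.2⟩
    rw [h3]
    exact Nat.card_congr (Subgroup.subgroupOfEquivOfLe inf_le_left).toEquiv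
  rw [← h1, h2, mul_comm]

/-- elements of `M24` fixing all points of a list -/
def fx (L : List GolayPt) : Subgroup (Equiv.Perm GolayPt) where
  carrier := {g | g ∈ M24 ∧ ∀ p ∈ L, g p = p}
  one_mem' := ⟨M24.one_mem, fun _ _ => rfl⟩
  mul_mem' := by
    rintro g h ⟨hg, hg'⟩ ⟨hh, hh'⟩
    refine ⟨M24.mul_mem hg hh, fun p hp => ?_⟩
    rw [Equiv.Perm.mul_apply, hh' p hp, hg' p hp]
  inv_mem' := by
    rintro g ⟨hg, hg'⟩
    refine ⟨M24.inv_mem hg, fun p hp => ?_⟩
    rw [Equiv.Perm.inv_eq_iff_eq]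
    exact (hg' p hp).symm

theorem mem_fx {L : List GolayPt} {g : Equiv.Perm GolayPt} :
    g ∈ fx L ↔ g ∈ M24 ∧ ∀ p ∈ L, g p = p := Iff.rfl

theorem fx_nil : fx [] = M24 := by
  ext g; rw [mem_fx]; simp

theorem fx_cons (L : List GolayPt) (b : GolayPt) :
    fx L ⊓ MulAction.stabilizer (Equiv.Perm GolayPt) b = fx (b :: L) := by
  ext g
  have e : g ∈ MulAction.stabilizer (Equiv.Perm GolayPt) b ↔ g b = b := MulAction.mem_stabilizer_iff
  rw [Subgroup.mem_inf, e]
  constructor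
  · rintro ⟨⟨h1, h2⟩, h3⟩
    refine ⟨h1, fun p hp => ?_⟩
    rcases List.mem_cons.1 hp with rfl | hp
    · exact h3
    · exact h2 p hp
  · rintro ⟨h1, h2⟩
    exact ⟨⟨h1, fun p hp => h2 p (List.mem_cons_of_mem _ hp)⟩, h2 b List.mem_cons_self⟩

theorem fx_perm {L L' : List GolayPt} (h : ∀ p, p ∈ L ↔ p ∈ L') : fx L = fx L' := by
  ext g; rw [mem_fx, mem_fx]; simp only [h]

theorem orbit_eq {α : Type*} (H : Subgroup (Equiv.Perm α)) (b : α) (S : Set α)
    (h1 : ∀ g ∈ H, g b ∈ S) (h2 : ∀ q ∈ S, ∃ g ∈ H, g b = q) : MulAction.orbit H b = S := by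
  ext q
  rw [MulAction.mem_orbit_iff]
  constructor
  · rintro ⟨g, rfl⟩; exact h1 g g.2
  · intro hq
    obtain ⟨g, hg, rfl⟩ := h2 q hq
    exact ⟨⟨g, hg⟩, rfl⟩

theorem octad_unique {s t : Finset GolayPt} (hs : s ∈ octads) (ht : t ∈ octads)
    (h : 5 ≤ (s ∩ t).card) : s = t := by
  by_contra hne
  have := octad_inter hs ht hne
  omega

theorem card_smul_finset' (g : Equiv.Perm GolayPt) (s : Finset GolayPt) : (g • s).card = s.card :=
  Finset.card_smul_finset g s

theorem smul_octad {g : Equiv.Perm GolayPt} (hg : g ∈ M24) {s : Finset GolayPt} :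
    g • s ∈ octads ↔ s ∈ octads := by
  rw [mem_octads', mem_octads', smul_mem_supports hg, card_smul_finset']

theorem smul_dodecad {g : Equiv.Perm GolayPt} (hg : g ∈ M24) {s : Finset GolayPt} :
    g • s ∈ dodecads ↔ s ∈ dodecads := by
  rw [mem_dodecads', mem_dodecads', smul_mem_supports hg, card_smul_finset']

/-- a permutation in `M24` fixing at least five points of an octad fixes the octad -/
theorem fix_octad {g : Equiv.Perm GolayPt} (hg : g ∈ M24) {F : Finset GolayPt}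
    (hF : ∀ p ∈ F, g p = p) {o : Finset GolayPt} (ho : o ∈ octads) (h : 5 ≤ (o ∩ F).card) :
    g • o = o := by
  apply octad_unique ((smul_octad hg).2 ho) ho
  refine le_trans h (Finset.card_le_card ?_)
  intro p hp
  rw [Finset.mem_inter] at hp
  rw [Finset.mem_inter]
  refine ⟨?_, hp.1⟩
  rw [Finset.mem_smul_finset]
  exact ⟨p, hp.1, hF p hp.2⟩

/-- one closure step on masks of fixed points -/
def fixStep (F : ℕ) (c : ℕ × ℕ) : ℕ :=
  bif (inCode c.1).and ((Nat.beq (pop24 c.1) 8).and ((Nat.ble 5 (pop24 (Nat.land c.1 F))).and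
    ((inCode c.2).and ((Nat.beq (pop24 c.2) 8).and ((Nat.ble 5 (pop24 (Nat.land c.2 F))).and
    (Nat.beq (pop24 (Nat.land (Nat.land c.1 c.2) (Nat.xor 0xffffff F))) 1))))))
  then Nat.lor F (Nat.land c.1 c.2) else F

theorem inCode_lt {m : ℕ} (h : inCode m = true) : m < 2 ^ 24 := by
  obtain ⟨x, _, rfl⟩ := inCode_iff.1 h
  exact enc_lt x

theorem mem_octads_mset {m : ℕ} (h : inCode m = true) (h' : pop24 m = 8) : mset m ∈ octads := by
  rw [mem_octads', card_mset]
  exact ⟨(mset_mem_supports (inCode_lt h)).2 h, h'⟩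

theorem fixStep_sound {g : Equiv.Perm GolayPt} (hg : g ∈ M24) {F : ℕ}
    (hF : ∀ p ∈ mset F, g p = p) (c : ℕ × ℕ) : ∀ p ∈ mset (fixStep F c), g p = p := by
  unfold fixStep
  cases hc : (inCode c.1).and ((Nat.beq (pop24 c.1) 8).and ((Nat.ble 5 (pop24 (Nat.land c.1 F))).and
    ((inCode c.2).and ((Nat.beq (pop24 c.2) 8).and ((Nat.ble 5 (pop24 (Nat.land c.2 F))).and
    (Nat.beq (pop24 (Nat.land (Nat.land c.1 c.2) (Nat.xor 0xffffff F))) 1))))))
  · simpa using hF
  · simp only [Bool.and_eq_true, natBeq_iff, natBle_iff] at hc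
    obtain ⟨h1, h2, h3, h4, h5, h6, h7⟩ := hc
    have e1 : Nat.land c.1 F = c.1 &&& F := rfl
    have e2 : Nat.land c.2 F = c.2 &&& F := rfl
    have e3 : Nat.land (Nat.land c.1 c.2) (Nat.xor 0xffffff F) = (c.1 &&& c.2) &&& (0xffffff ^^^ F) := rfl
    rw [e1, ← card_mset, mset_and] at h3
    rw [e2, ← card_mset, mset_and] at h6
    rw [e3, ← card_mset, mset_and, mset_and] at h7
    have k1 := fix_octad hg hF (mem_octads_mset h1 h2) h3
    have k2 := fix_octad hg hF (mem_octads_mset h4 h5) h6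
    simp only [cond_true]
    change ∀ p ∈ mset (F ||| (c.1 &&& c.2)), g p = p
    rw [mset_or, mset_and]
    intro p hp
    rw [Finset.mem_union] at hp
    by_cases hpF : p ∈ mset F
    · exact hF p hpF
    have hp' : p ∈ mset c.1 ∩ mset c.2 := hp.resolve_left hpF
    have hall : ∀ q : GolayPt, q ∈ mset (0xffffff ^^^ F) ↔ q ∉ mset F := by
      intro q
      rw [mset_xor]
      have : mset 0xffffff = Finset.univ := by
        ext r; rw [mem_mset]; revert r; decide +kernel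
      rw [this, Finset.mem_symmDiff]; simp
    have hgp : g p ∈ (mset c.1 ∩ mset c.2) ∩ mset (0xffffff ^^^ F) := by
      rw [Finset.mem_inter, Finset.mem_inter, hall]
      rw [Finset.mem_inter] at hp'
      refine ⟨⟨?_, ?_⟩, ?_⟩
      · rw [← k1]; exact Finset.smul_mem_smul_finset hp'.1
      · rw [← k2]; exact Finset.smul_mem_smul_finset hp'.2
      · intro h
        have := hF _ h
        have h8 : g p = p := g.injective this
        rw [h8] at h; exact hpF h
    have hpp : p ∈ (mset c.1 ∩ mset c.2) ∩ mset (0xffffff ^^^ F) := by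
      rw [Finset.mem_inter, hall]; exact ⟨hp', hpF⟩
    obtain ⟨r, hr⟩ := Finset.card_eq_one.1 h7
    rw [hr, Finset.mem_singleton] at hgp hpp
    rw [hgp, hpp]

theorem fixSteps_sound {g : Equiv.Perm GolayPt} (hg : g ∈ M24) (l : List (ℕ × ℕ)) {F : ℕ}
    (hF : ∀ p ∈ mset F, g p = p) : ∀ p ∈ mset (l.foldl fixStep F), g p = p := by
  induction l generalizing F with
  | nil => exact hF
  | cons c l ih => exact ih (fixStep_sound hg hF c)

/-- if the closure is everything then the permutation is trivial -/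
theorem eq_one_of_closure {g : Equiv.Perm GolayPt} (hg : g ∈ M24) (l : List (ℕ × ℕ)) {F : ℕ}
    (hF : ∀ p ∈ mset F, g p = p) (h : l.foldl fixStep F = 0xffffff) : g = 1 := by
  ext p
  have h1 := fixSteps_sound hg l hF p
  rw [h] at h1
  have key : ∀ p : GolayPt, p ∈ mset 0xffffff := by decide +kernel
  rw [h1 (key p)]; rfl

/-- closure certificate for the base -/
def baseCert : List (ℕ × ℕ) := [(0xc12017, 0x843039), (0x34200f, 0x91a02a), (0x34200f, 0xb01036),
  (0xa96009, 0xba800c), (0x8ea003, 0x9d4006), (0x8ea003, 0xd4b004), (0x8ea003, 0x13e005),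
  (0xd4b004, 0x9b3010), (0xc75001, 0xd4b004), (0xc75001, 0x9b3010), (0xc75001, 0x49f002),
  (0xecc040, 0x2b9041), (0x1ed080, 0xd98081), (0x3da100, 0x745102), (0x7b4200, 0xbc1201),
  (0xb1d400, 0x768401), (0xe3a800, 0x24f801)]

theorem baseCert_ok : baseCert.foldl fixStep 0x80003f = 0xffffff := by decide +kernel

/-- base points -/
def bp (n : ℕ) : GolayPt := ofIdx n

theorem fx_base_trivial : fx [bp 4, bp 5, bp 3, bp 2, bp 1, bp 0, bp 23] = ⊥ := by
  rw [eq_bot_iff]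
  intro g hg
  rw [Subgroup.mem_bot]
  refine eq_one_of_closure hg.1 baseCert (F := 0x80003f) ?_ baseCert_ok
  intro p hp
  have key : ∀ p ∈ mset 0x80003f, p ∈ [bp 4, bp 5, bp 3, bp 2, bp 1, bp 0, bp 23] := by decide +kernel
  exact hg.2 p (key p hp)

theorem card_fx6 : Nat.card (fx [bp 5, bp 3, bp 2, bp 1, bp 0, bp 23]) = 16 := by
  rw [card_eq_orbit_mul _ (bp 4), fx_cons, fx_base_trivial, Subgroup.card_bot, mul_one]
  rw [orbit_eq _ _ {q | q ∉ mset 0x82402f}]
  · rw [Set.ncard_eq_toFinset_card']; decide +kernel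
  · intro g hg
    have ho : mset 0x82402f ∈ octads := mem_octads_mset (by decide +kernel) (by decide +kernel)
    have h1 : g • mset 0x82402f = mset 0x82402f := by
      refine fix_octad hg.1 (F := mset 0x80002f) ?_ ho ?_
      · intro p hp
        have key : ∀ p ∈ mset 0x80002f, p ∈ [bp 5, bp 3, bp 2, bp 1, bp 0, bp 23] := by decide +kernel
        exact hg.2 p (key p hp)
      · rw [← mset_and, card_mset]; decide +kernel
    rw [Set.mem_ofPred_eq]
    intro h
    rw [← h1, Finset.mem_smul_finset] at h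
    obtain ⟨y, hy, h2⟩ := h
    have : y = bp 4 := g.injective h2
    rw [this] at hy
    revert hy; decide +kernel
  · intro q hq
    have hq' : notIn [23, 0, 1, 2, 3, 5, 14, 17] (toIdx q) = true := by
      have key : ∀ q : GolayPt, q ∉ mset 0x82402f → notIn [23, 0, 1, 2, 3, 5, 14, 17] (toIdx q) = true := by
        decide +kernel
      exact key q hq
    obtain ⟨g, hg, h1, h2⟩ := tr_exists trOK6 trCov6 (by norm_num) q hq'
    refine ⟨g, ⟨hg, ?_⟩, h2⟩
    intro p hp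
    refine h1 (toIdx p) ?_ p rfl
    have key : ∀ p ∈ [bp 5, bp 3, bp 2, bp 1, bp 0, bp 23], toIdx p ∈ [23, 0, 1, 2, 3, 5] := by
      decide +kernel
    exact key p hp

theorem card_fx5 : Nat.card (fx [bp 3, bp 2, bp 1, bp 0, bp 23]) = 48 := by
  rw [card_eq_orbit_mul _ (bp 5), fx_cons, card_fx6]
  rw [orbit_eq _ _ {q | q ∈ mset 0x24020}]
  · have : ({q | q ∈ mset 0x24020} : Set GolayPt).ncard = 3 := by
      rw [Set.ncard_eq_toFinset_card']; decide +kernel
    rw [this]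
  · intro g hg
    have ho : mset 0x82402f ∈ octads := mem_octads_mset (by decide +kernel) (by decide +kernel)
    have h1 : g • mset 0x82402f = mset 0x82402f := by
      refine fix_octad hg.1 (F := mset 0x80000f) ?_ ho ?_
      · intro p hp
        have key : ∀ p ∈ mset 0x80000f, p ∈ [bp 3, bp 2, bp 1, bp 0, bp 23] := by decide +kernel
        exact hg.2 p (key p hp)
      · rw [← mset_and, card_mset]; decide +kernel
    have h2 : g (bp 5) ∈ mset 0x82402f := by
      rw [← h1, Finset.mem_smul_finset]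
      exact ⟨bp 5, by decide +kernel, rfl⟩
    have h3 : g (bp 5) ∉ mset 0x80000f := by
      intro h
      have key : ∀ p ∈ mset 0x80000f, p ∈ [bp 3, bp 2, bp 1, bp 0, bp 23] := by decide +kernel
      have h4 := hg.2 _ (key _ h)
      have h5 : g (bp 5) = bp 5 := g.injective h4
      rw [h5] at h
      revert h; decide +kernel
    rw [Set.mem_ofPred_eq]
    have key : ∀ q : GolayPt, q ∈ mset 0x82402f → q ∉ mset 0x80000f → q ∈ mset 0x24020 := by
      decide +kernel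
    exact key _ h2 h3
  · intro q hq
    have hq' : (fun q => (Nat.beq q 5).or ((Nat.beq q 14).or (Nat.beq q 17))) (toIdx q) = true := by
      have key : ∀ q : GolayPt, q ∈ mset 0x24020 →
        (fun q => (Nat.beq q 5).or ((Nat.beq q 14).or (Nat.beq q 17))) (toIdx q) = true := by
        decide +kernel
      exact key q hq
    obtain ⟨g, hg, h1, h2⟩ := tr_exists trOK5 trCov5 (by norm_num) q hq'
    refine ⟨g, ⟨hg, ?_⟩, h2⟩
    intro p hp
    refine h1 (toIdx p) ?_ p rfl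
    have key : ∀ p ∈ [bp 3, bp 2, bp 1, bp 0, bp 23], toIdx p ∈ [23, 0, 1, 2, 3] := by
      decide +kernel
    exact key p hp

theorem tr0_exists (q : GolayPt) : ∃ g ∈ M24, g (bp 23) = q := by
  obtain ⟨g, hg, _, h2⟩ := tr_exists trOK0 trCov0 (by norm_num) q rfl
  exact ⟨g, hg, h2⟩

theorem tr1_exists (q : GolayPt) (h : q ≠ bp 23) : ∃ g ∈ M24, g (bp 23) = bp 23 ∧ g (bp 0) = q := by
  have hq : notIn [23] (toIdx q) = true := by revert q; decide +kernel
  obtain ⟨g, hg, h1, h2⟩ := tr_exists trOK1 trCov1 (by norm_num) q hq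
  exact ⟨g, hg, h1 23 (by simp) _ rfl, h2⟩

theorem tr2_exists (q : GolayPt) (h : q ≠ bp 23) (h' : q ≠ bp 0) :
    ∃ g ∈ M24, g (bp 23) = bp 23 ∧ g (bp 0) = bp 0 ∧ g (bp 1) = q := by
  have hq : notIn [23, 0] (toIdx q) = true := by revert q; decide +kernel
  obtain ⟨g, hg, h1, h2⟩ := tr_exists trOK2 trCov2 (by norm_num) q hq
  exact ⟨g, hg, h1 23 (by simp) _ rfl, h1 0 (by simp) _ rfl, h2⟩

theorem tr3_exists (q : GolayPt) (h : q ≠ bp 23) (h' : q ≠ bp 0) (h'' : q ≠ bp 1) :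
    ∃ g ∈ M24, g (bp 23) = bp 23 ∧ g (bp 0) = bp 0 ∧ g (bp 1) = bp 1 ∧ g (bp 2) = q := by
  have hq : notIn [23, 0, 1] (toIdx q) = true := by revert q; decide +kernel
  obtain ⟨g, hg, h1, h2⟩ := tr_exists trOK3 trCov3 (by norm_num) q hq
  exact ⟨g, hg, h1 23 (by simp) _ rfl, h1 0 (by simp) _ rfl, h1 1 (by simp) _ rfl, h2⟩

theorem tr4_exists (q : GolayPt) (h : q ≠ bp 23) (h' : q ≠ bp 0) (h'' : q ≠ bp 1) (h3 : q ≠ bp 2) :
    ∃ g ∈ M24, g (bp 23) = bp 23 ∧ g (bp 0) = bp 0 ∧ g (bp 1) = bp 1 ∧ g (bp 2) = bp 2 ∧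
      g (bp 3) = q := by
  have hq : notIn [23, 0, 1, 2] (toIdx q) = true := by revert q; decide +kernel
  obtain ⟨g, hg, h1, h2⟩ := tr_exists trOK4 trCov4 (by norm_num) q hq
  exact ⟨g, hg, h1 23 (by simp) _ rfl, h1 0 (by simp) _ rfl, h1 1 (by simp) _ rfl,
    h1 2 (by simp) _ rfl, h2⟩

/-- 5-transitivity: the base can be moved to any five distinct points -/
theorem base_to (a b c d e : GolayPt) (hab : a ≠ b) (hac : a ≠ c) (had : a ≠ d) (hae : a ≠ e)
    (hbc : b ≠ c) (hbd : b ≠ d) (hbe : b ≠ e) (hcd : c ≠ d) (hce : c ≠ e) (hde : d ≠ e) :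
    ∃ g ∈ M24, g (bp 23) = a ∧ g (bp 0) = b ∧ g (bp 1) = c ∧ g (bp 2) = d ∧ g (bp 3) = e := by
  obtain ⟨g0, m0, rfl⟩ := tr0_exists a
  obtain ⟨g1, m1, f1, e1⟩ := tr1_exists (g0⁻¹ b) (by
    intro h; apply hab; rw [← h]; simp)
  obtain ⟨g2, m2, f20, f21, e2⟩ := tr2_exists (g1⁻¹ (g0⁻¹ c)) (by
    intro h; apply hac; rw [Equiv.Perm.inv_eq_iff_eq, f1, Equiv.Perm.inv_eq_iff_eq] at h; exact h.symm) (by
    intro h; apply hbc; rw [Equiv.Perm.inv_eq_iff_eq, e1] at h; exact (g0⁻¹).injective h.symm)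
  obtain ⟨g3, m3, f30, f31, f32, e3⟩ := tr3_exists (g2⁻¹ (g1⁻¹ (g0⁻¹ d))) (by
    intro h; apply had
    rw [Equiv.Perm.inv_eq_iff_eq, f20, Equiv.Perm.inv_eq_iff_eq, f1, Equiv.Perm.inv_eq_iff_eq] at h
    exact h.symm) (by
    intro h; apply hbd
    rw [Equiv.Perm.inv_eq_iff_eq, f21, Equiv.Perm.inv_eq_iff_eq, e1] at h
    exact (g0⁻¹).injective h.symm) (by
    intro h; apply hcd
    rw [Equiv.Perm.inv_eq_iff_eq, e2] at h
    exact (g0⁻¹).injective ((g1⁻¹).injective h.symm))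
  obtain ⟨g4, m4, f40, f41, f42, f43, e4⟩ := tr4_exists (g3⁻¹ (g2⁻¹ (g1⁻¹ (g0⁻¹ e)))) (by
    intro h; apply hae
    rw [Equiv.Perm.inv_eq_iff_eq, f30, Equiv.Perm.inv_eq_iff_eq, f20, Equiv.Perm.inv_eq_iff_eq, f1,
      Equiv.Perm.inv_eq_iff_eq] at h
    exact h.symm) (by
    intro h; apply hbe
    rw [Equiv.Perm.inv_eq_iff_eq, f31, Equiv.Perm.inv_eq_iff_eq, f21, Equiv.Perm.inv_eq_iff_eq, e1] at h
    exact (g0⁻¹).injective h.symm) (by
    intro h; apply hce
    rw [Equiv.Perm.inv_eq_iff_eq, f32, Equiv.Perm.inv_eq_iff_eq, e2] at h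
    exact (g0⁻¹).injective ((g1⁻¹).injective h.symm)) (by
    intro h; apply hde
    rw [Equiv.Perm.inv_eq_iff_eq, e3] at h
    exact (g0⁻¹).injective ((g1⁻¹).injective ((g2⁻¹).injective h.symm)))
  refine ⟨g0 * (g1 * (g2 * (g3 * g4))), M24.mul_mem m0 (M24.mul_mem m1 (M24.mul_mem m2 (M24.mul_mem m3 m4))), ?_, ?_, ?_, ?_, ?_⟩
  · simp only [Equiv.Perm.mul_apply, f40, f30, f20, f1]
  · simp only [Equiv.Perm.mul_apply, f41, f31, f21, e1]; simp
  · simp only [Equiv.Perm.mul_apply, f42, f32, e2]; simp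
  · simp only [Equiv.Perm.mul_apply, f43, e3]; simp
  · simp only [Equiv.Perm.mul_apply, e4]; simp

theorem five_trans {a b c d e a' b' c' d' e' : GolayPt} (hab : a ≠ b) (hac : a ≠ c) (had : a ≠ d)
    (hae : a ≠ e) (hbc : b ≠ c) (hbd : b ≠ d) (hbe : b ≠ e) (hcd : c ≠ d) (hce : c ≠ e)
    (hde : d ≠ e) (hab' : a' ≠ b') (hac' : a' ≠ c') (had' : a' ≠ d')
    (hae' : a' ≠ e') (hbc' : b' ≠ c') (hbd' : b' ≠ d') (hbe' : b' ≠ e') (hcd' : c' ≠ d')
    (hce' : c' ≠ e') (hde' : d' ≠ e') :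
    ∃ g ∈ M24, g a = a' ∧ g b = b' ∧ g c = c' ∧ g d = d' ∧ g e = e' := by
  obtain ⟨g, hg, rfl, rfl, rfl, rfl, rfl⟩ := base_to a b c d e hab hac had hae hbc hbd hbe hcd hce hde
  obtain ⟨h, hh, rfl, rfl, rfl, rfl, rfl⟩ :=
    base_to a' b' c' d' e' hab' hac' had' hae' hbc' hbd' hbe' hcd' hce' hde'
  exact ⟨h * g⁻¹, M24.mul_mem hh (M24.inv_mem hg), by simp, by simp, by simp, by simp, by simp⟩

theorem five_trans_emb (x y : Fin 5 ↪ GolayPt) : ∃ g ∈ M24, ∀ i, g (x i) = y i := by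
  have hx : ∀ i j, i ≠ j → x i ≠ x j := fun i j h h' => h (x.injective h')
  have hy : ∀ i j, i ≠ j → y i ≠ y j := fun i j h h' => h (y.injective h')
  obtain ⟨g, hg, h0, h1, h2, h3, h4⟩ := five_trans
    (hx 0 1 (by decide)) (hx 0 2 (by decide)) (hx 0 3 (by decide)) (hx 0 4 (by decide))
    (hx 1 2 (by decide)) (hx 1 3 (by decide)) (hx 1 4 (by decide)) (hx 2 3 (by decide))
    (hx 2 4 (by decide)) (hx 3 4 (by decide))
    (hy 0 1 (by decide)) (hy 0 2 (by decide)) (hy 0 3 (by decide)) (hy 0 4 (by decide))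
    (hy 1 2 (by decide)) (hy 1 3 (by decide)) (hy 1 4 (by decide)) (hy 2 3 (by decide))
    (hy 2 4 (by decide)) (hy 3 4 (by decide))
  refine ⟨g, hg, ?_⟩
  intro i
  fin_cases i
  · exact h0
  · exact h1
  · exact h2
  · exact h3
  · exact h4

end CfsgL.Golay
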