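import Cfsg.Agent.L.Golay.Order
/-!
Orders of `M24` and of its pointwise stabilisers.
-/
set_option autoImplicit false
namespace CfsgL.Golay
open Cfsg CfsgL.Comp
open scoped Pointwise

theorem card_fx_map {g : Equiv.Perm GolayPt} (hg : g ∈ M24) (L : List GolayPt) :
    Nat.card (fx (L.map g)) = Nat.card (fx L) := by
  apply Nat.card_congr
  refine ⟨fun h => ⟨g⁻¹ * h.1 * g, ?_⟩, fun h => ⟨g * h.1 * g⁻¹, ?_⟩, ?_, ?_⟩
  · refine ⟨M24.mul_mem (M24.mul_mem (M24.inv_mem hg) h.2.1) hg, fun p hp => ?_⟩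
    have := h.2.2 (g p) (List.mem_map_of_mem hp)
    simp [this]
  · refine ⟨M24.mul_mem (M24.mul_mem hg h.2.1) (M24.inv_mem hg), fun p hp => ?_⟩
    obtain ⟨q, hq, rfl⟩ := List.mem_map.1 hp
    simp [h.2.2 q hq]
  · intro h; ext; simp
  · intro h; ext; simp

theorem card_fx_base4 : Nat.card (fx [bp 2, bp 1, bp 0, bp 23]) = 960 := by
  rw [card_eq_orbit_mul _ (bp 3), fx_cons, card_fx5]
  rw [orbit_eq _ _ {q | q ≠ bp 23 ∧ q ≠ bp 0 ∧ q ≠ bp 1 ∧ q ≠ bp 2}]
  · have : ({q | q ≠ bp 23 ∧ q ≠ bp 0 ∧ q ≠ bp 1 ∧ q ≠ bp 2} : Set GolayPt).ncard = 20 := by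
      rw [Set.ncard_eq_toFinset_card']; decide +kernel
    rw [this]
  · intro g hg
    have h : ∀ p, p ∈ [bp 2, bp 1, bp 0, bp 23] → g (bp 3) = p → False := by
      intro p hp h
      have h1 := hg.2 p hp
      rw [← h1] at h
      have h2 : bp 3 = p := g.injective h
      have key : ∀ p ∈ [bp 2, bp 1, bp 0, bp 23], bp 3 ≠ p := by decide +kernel
      exact key p hp h2
    refine ⟨fun h' => h _ (by simp) h', fun h' => h _ (by simp) h', fun h' => h _ (by simp) h',
      fun h' => h _ (by simp) h'⟩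
  · rintro q ⟨h1, h2, h3, h4⟩
    obtain ⟨g, hg, f1, f2, f3, f4, f5⟩ := tr4_exists q h1 h2 h3 h4
    refine ⟨g, ⟨hg, ?_⟩, f5⟩
    intro p hp
    simp only [List.mem_cons, List.not_mem_nil, or_false] at hp
    rcases hp with rfl | rfl | rfl | rfl <;> assumption

theorem card_fx_base3 : Nat.card (fx [bp 1, bp 0, bp 23]) = 20160 := by
  rw [card_eq_orbit_mul _ (bp 2), fx_cons, card_fx_base4]
  rw [orbit_eq _ _ {q | q ≠ bp 23 ∧ q ≠ bp 0 ∧ q ≠ bp 1}]
  · have : ({q | q ≠ bp 23 ∧ q ≠ bp 0 ∧ q ≠ bp 1} : Set GolayPt).ncard = 21 := by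
      rw [Set.ncard_eq_toFinset_card']; decide +kernel
    rw [this]
  · intro g hg
    have h : ∀ p, p ∈ [bp 1, bp 0, bp 23] → g (bp 2) = p → False := by
      intro p hp h
      have h1 := hg.2 p hp
      rw [← h1] at h
      have h2 : bp 2 = p := g.injective h
      have key : ∀ p ∈ [bp 1, bp 0, bp 23], bp 2 ≠ p := by decide +kernel
      exact key p hp h2
    refine ⟨fun h' => h _ (by simp) h', fun h' => h _ (by simp) h', fun h' => h _ (by simp) h'⟩
  · rintro q ⟨h1, h2, h3⟩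
    obtain ⟨g, hg, f1, f2, f3, f5⟩ := tr3_exists q h1 h2 h3
    refine ⟨g, ⟨hg, ?_⟩, f5⟩
    intro p hp
    simp only [List.mem_cons, List.not_mem_nil, or_false] at hp
    rcases hp with rfl | rfl | rfl <;> assumption

theorem card_fx_base2 : Nat.card (fx [bp 0, bp 23]) = 443520 := by
  rw [card_eq_orbit_mul _ (bp 1), fx_cons, card_fx_base3]
  rw [orbit_eq _ _ {q | q ≠ bp 23 ∧ q ≠ bp 0}]
  · have : ({q | q ≠ bp 23 ∧ q ≠ bp 0} : Set GolayPt).ncard = 22 := by
      rw [Set.ncard_eq_toFinset_card']; decide +kernel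
    rw [this]
  · intro g hg
    have h : ∀ p, p ∈ [bp 0, bp 23] → g (bp 1) = p → False := by
      intro p hp h
      have h1 := hg.2 p hp
      rw [← h1] at h
      have h2 : bp 1 = p := g.injective h
      have key : ∀ p ∈ [bp 0, bp 23], bp 1 ≠ p := by decide +kernel
      exact key p hp h2
    refine ⟨fun h' => h _ (by simp) h', fun h' => h _ (by simp) h'⟩
  · rintro q ⟨h1, h2⟩
    obtain ⟨g, hg, f1, f2, f5⟩ := tr2_exists q h1 h2
    refine ⟨g, ⟨hg, ?_⟩, f5⟩
    intro p hp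
    simp only [List.mem_cons, List.not_mem_nil, or_false] at hp
    rcases hp with rfl | rfl <;> assumption

theorem card_fx_base1 : Nat.card (fx [bp 23]) = 10200960 := by
  rw [card_eq_orbit_mul _ (bp 0), fx_cons, card_fx_base2]
  rw [orbit_eq _ _ {q | q ≠ bp 23}]
  · have : ({q | q ≠ bp 23} : Set GolayPt).ncard = 23 := by
      rw [Set.ncard_eq_toFinset_card']; decide +kernel
    rw [this]
  · intro g hg h'
    have h1 := hg.2 (bp 23) (by simp)
    rw [← h1] at h'
    exact absurd (g.injective h') (by decide +kernel)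
  · intro q h1
    obtain ⟨g, hg, f1, f5⟩ := tr1_exists q h1
    refine ⟨g, ⟨hg, ?_⟩, f5⟩
    intro p hp
    simp only [List.mem_cons, List.not_mem_nil, or_false] at hp
    rcases hp with rfl; assumption

theorem card_M24 : Nat.card M24 = 244823040 := by
  rw [← fx_nil, card_eq_orbit_mul _ (bp 23), fx_cons, card_fx_base1]
  rw [orbit_eq _ _ Set.univ]
  · rw [Set.ncard_univ, Nat.card_eq_fintype_card]; decide +kernel
  · intro g _; trivial
  · intro q _
    obtain ⟨g, hg, f5⟩ := tr0_exists q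
    exact ⟨g, ⟨hg, by simp⟩, f5⟩

/-- choose a point different from those of a short list -/
theorem exists_other (l : List GolayPt) (h : l.length < 24) : ∃ p, p ∉ l := by
  by_contra hne
  push Not at hne
  have h1 : (Finset.univ : Finset GolayPt) ⊆ l.toFinset := fun p _ => List.mem_toFinset.2 (hne p)
  have h2 := Finset.card_le_card h1
  have h3 := List.toFinset_card_le l
  have h4 : (Finset.univ : Finset GolayPt).card = 24 := by decide
  omega

theorem card_fx1 (a : GolayPt) : Nat.card (fx [a]) = 10200960 := by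
  obtain ⟨g, hg, rfl⟩ := tr0_exists a
  have h := card_fx_map hg [bp 23]
  rw [List.map_cons, List.map_nil] at h
  rw [h, card_fx_base1]

theorem card_fx2 {a b : GolayPt} (hab : a ≠ b) : Nat.card (fx [a, b]) = 443520 := by
  obtain ⟨c, hc⟩ := exists_other [a, b] (by simp)
  obtain ⟨d, hd⟩ := exists_other [a, b, c] (by simp)
  obtain ⟨e, he⟩ := exists_other [a, b, c, d] (by simp)
  simp only [List.mem_cons, List.not_mem_nil, or_false, not_or] at hc hd he
  obtain ⟨g, hg, h1, h2, h3, h4, h5⟩ := base_to b a c d e (Ne.symm hab) (Ne.symm hc.2)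
    (Ne.symm hd.2.1) (Ne.symm he.2.1) (Ne.symm hc.1) (Ne.symm hd.1) (Ne.symm he.1)
    (Ne.symm hd.2.2) (Ne.symm he.2.2.1) (Ne.symm he.2.2.2)
  have h := card_fx_map hg [bp 0, bp 23]
  simp only [List.map_cons, List.map_nil, h1, h2] at h
  rw [h, card_fx_base2]

theorem card_fx3 {a b c : GolayPt} (hab : a ≠ b) (hac : a ≠ c) (hbc : b ≠ c) :
    Nat.card (fx [a, b, c]) = 20160 := by
  obtain ⟨d, hd⟩ := exists_other [a, b, c] (by simp)
  obtain ⟨e, he⟩ := exists_other [a, b, c, d] (by simp)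
  simp only [List.mem_cons, List.not_mem_nil, or_false, not_or] at hd he
  obtain ⟨g, hg, h1, h2, h3, h4, h5⟩ := base_to c b a d e (Ne.symm hbc) (Ne.symm hac)
    (Ne.symm hd.2.2) (Ne.symm he.2.2.1) (Ne.symm hab) (Ne.symm hd.2.1) (Ne.symm he.2.1)
    (Ne.symm hd.1) (Ne.symm he.1) (Ne.symm he.2.2.2)
  have h := card_fx_map hg [bp 1, bp 0, bp 23]
  simp only [List.map_cons, List.map_nil, h1, h2, h3] at h
  rw [h, card_fx_base3]

theorem card_fx4 {a b c d : GolayPt} (hab : a ≠ b) (hac : a ≠ c) (had : a ≠ d) (hbc : b ≠ c)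
    (hbd : b ≠ d) (hcd : c ≠ d) : Nat.card (fx [a, b, c, d]) = 960 := by
  obtain ⟨e, he⟩ := exists_other [a, b, c, d] (by simp)
  simp only [List.mem_cons, List.not_mem_nil, or_false, not_or] at he
  obtain ⟨g, hg, h1, h2, h3, h4, h5⟩ := base_to d c b a e (Ne.symm hcd) (Ne.symm hbd)
    (Ne.symm had) (Ne.symm he.2.2.2) (Ne.symm hbc) (Ne.symm hac) (Ne.symm he.2.2.1)
    (Ne.symm hab) (Ne.symm he.2.1) (Ne.symm he.1)
  have h := card_fx_map hg [bp 2, bp 1, bp 0, bp 23]
  simp only [List.map_cons, List.map_nil, h1, h2, h3, h4] at h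
  rw [h, card_fx_base4]

theorem card_fx5' {a b c d e : GolayPt} (hab : a ≠ b) (hac : a ≠ c) (had : a ≠ d) (hae : a ≠ e)
    (hbc : b ≠ c) (hbd : b ≠ d) (hbe : b ≠ e) (hcd : c ≠ d) (hce : c ≠ e) (hde : d ≠ e) :
    Nat.card (fx [a, b, c, d, e]) = 48 := by
  obtain ⟨g, hg, h1, h2, h3, h4, h5⟩ := base_to e d c b a (Ne.symm hde) (Ne.symm hce)
    (Ne.symm hbe) (Ne.symm hae) (Ne.symm hcd) (Ne.symm hbd) (Ne.symm had)
    (Ne.symm hbc) (Ne.symm hac) (Ne.symm hab)
  have h := card_fx_map hg [bp 3, bp 2, bp 1, bp 0, bp 23]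
  simp only [List.map_cons, List.map_nil, h1, h2, h3, h4, h5] at h
  rw [h, card_fx5]

theorem fx_le (L : List GolayPt) : fx L ≤ M24 := fun _ h => h.1

theorem stabilizer_eq (p : GolayPt) : MulAction.stabilizer M24 p = (fx [p]).subgroupOf M24 := by
  ext g
  rw [Subgroup.mem_subgroupOf, MulAction.mem_stabilizer_iff, mem_fx]
  exact ⟨fun h => ⟨g.2, by intro q hq; rw [List.mem_singleton] at hq; rw [hq]; exact h⟩,
    fun h => h.2 p (by simp)⟩

theorem fx_inf (L L' : List GolayPt) : fx L ⊓ fx L' = fx (L ++ L') := by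
  ext g
  rw [Subgroup.mem_inf, mem_fx, mem_fx, mem_fx]
  constructor
  · rintro ⟨⟨h1, h2⟩, ⟨_, h3⟩⟩
    refine ⟨h1, fun p hp => ?_⟩
    rcases List.mem_append.1 hp with h | h
    · exact h2 p h
    · exact h3 p h
  · rintro ⟨h1, h2⟩
    exact ⟨⟨h1, fun p hp => h2 p (List.mem_append_left _ hp)⟩,
      ⟨h1, fun p hp => h2 p (List.mem_append_right _ hp)⟩⟩

theorem inf_subgroupOf (A B : Subgroup (Equiv.Perm GolayPt)) :
    A.subgroupOf M24 ⊓ B.subgroupOf M24 = (A ⊓ B).subgroupOf M24 := rfl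

theorem card_subgroupOf {A : Subgroup (Equiv.Perm GolayPt)} (h : A ≤ M24) :
    Nat.card (A.subgroupOf M24) = Nat.card A :=
  Nat.card_congr (Subgroup.subgroupOfEquivOfLe h).toEquiv

theorem card_stab1 (p : GolayPt) : Nat.card (MulAction.stabilizer M24 p) = 10200960 := by
  rw [stabilizer_eq, card_subgroupOf (fx_le _), card_fx1]

theorem card_stab2 {p q : GolayPt} (h : p ≠ q) :
    Nat.card ↥(MulAction.stabilizer M24 p ⊓ MulAction.stabilizer M24 q) = 443520 := by
  rw [stabilizer_eq, stabilizer_eq, inf_subgroupOf, fx_inf, card_subgroupOf (fx_le _)]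
  exact card_fx2 h

theorem five_transitive : MulAction.IsMultiplyPretransitive M24 GolayPt 5 := by
  constructor
  intro x y
  obtain ⟨g, hg, h⟩ := five_trans_emb x y
  exact ⟨⟨g, hg⟩, DFunLike.ext _ _ (fun i => h i)⟩

end CfsgL.Golay
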