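import Cfsg.Agent.L.Golay.Weights
/-!
Packed permutations of the 24 points and membership in `M24`.
-/
set_option autoImplicit false
namespace CfsgL.Golay
open Cfsg CfsgL.Comp
open scoped Pointwise

/-- entry `i` of a packed permutation (5 bits per entry) -/
def papp (P i : ℕ) : ℕ := Nat.land (Nat.shiftRight P (Nat.mul 5 i)) 31

/-- bounded universal quantifier -/
def allR (f : ℕ → Bool) (k : ℕ) : Bool :=
  Nat.rec (motive := fun _ => Bool) true (fun i ih => Bool.and (f i) ih) k

theorem allR_succ (f : ℕ → Bool) (k : ℕ) : allR f (k + 1) = (f k && allR f k) := rfl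

theorem allR_iff (f : ℕ → Bool) (k : ℕ) : allR f k = true ↔ ∀ i < k, f i = true := by
  induction k with
  | zero => simp [allR]
  | succ k ih =>
    rw [allR_succ, Bool.and_eq_true, ih]
    constructor
    · rintro ⟨h1, h2⟩ i hi
      rcases Nat.lt_succ_iff_lt_or_eq.1 hi with h | rfl
      · exact h2 i h
      · exact h1
    · intro h
      exact ⟨h k (Nat.lt_succ_self k), fun i hi => h i (Nat.lt_succ_of_lt hi)⟩

/-- `P` and `Q` are mutually inverse packed permutations -/
def permOK (P Q : ℕ) : Bool :=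
  allR (fun i => Bool.and (Bool.and (Nat.ble (papp P i) 23) (Nat.beq (papp Q (papp P i)) i))
    (Bool.and (Nat.ble (papp Q i) 23) (Nat.beq (papp P (papp Q i)) i))) 24

theorem permOK_iff {P Q : ℕ} : permOK P Q = true ↔ ∀ i < 24,
    (papp P i < 24 ∧ papp Q (papp P i) = i) ∧ (papp Q i < 24 ∧ papp P (papp Q i) = i) := by
  unfold permOK
  rw [allR_iff]
  simp only [Bool.and_eq_true, natBle_iff, natBeq_iff, Nat.lt_succ_iff]

/-- the permutation given by packed data -/
def toPerm (P Q : ℕ) (h : permOK P Q = true) : Equiv.Perm GolayPt where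
  toFun p := ofIdx (papp P (toIdx p))
  invFun p := ofIdx (papp Q (toIdx p))
  left_inv p := by
    have h1 := (permOK_iff.1 h _ (toIdx_lt p)).1
    simp only
    rw [toIdx_ofIdx h1.1, h1.2, ofIdx_toIdx]
  right_inv p := by
    have h1 := (permOK_iff.1 h _ (toIdx_lt p)).2
    simp only
    rw [toIdx_ofIdx h1.1, h1.2, ofIdx_toIdx]

theorem toIdx_toPerm {P Q : ℕ} (h : permOK P Q = true) (p : GolayPt) :
    toIdx (toPerm P Q h p) = papp P (toIdx p) :=
  toIdx_ofIdx (permOK_iff.1 h _ (toIdx_lt p)).1.1

theorem toPerm_apply {P Q : ℕ} (h : permOK P Q = true) (p : GolayPt) :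
    toPerm P Q h p = ofIdx (papp P (toIdx p)) := rfl

/-- image of a mask under a packed permutation -/
def img (P m : ℕ) : ℕ :=
  Nat.rec (motive := fun _ => ℕ) 0
    (fun i ih => Nat.lor (Nat.shiftLeft (Nat.land (Nat.shiftRight m i) 1) (papp P i)) ih) 24

theorem img_aux (P m k j : ℕ) :
    Nat.testBit (Nat.rec (motive := fun _ => ℕ) 0
      (fun i ih => Nat.lor (Nat.shiftLeft (Nat.land (Nat.shiftRight m i) 1) (papp P i)) ih) k) j = true ↔
      ∃ i < k, m.testBit i = true ∧ papp P i = j := by
  induction k with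
  | zero => simp
  | succ k ih =>
    simp only
    have e : ∀ a b : ℕ, Nat.testBit (Nat.lor a b) j = (Nat.testBit a j || Nat.testBit b j) :=
      fun a b => Nat.testBit_or a b j
    rw [e, Bool.or_eq_true, ih]
    have e2 : Nat.testBit (Nat.shiftLeft (Nat.land (Nat.shiftRight m k) 1) (papp P k)) j = true ↔
        (m.testBit k = true ∧ papp P k = j) := by
      have e3 : Nat.land (Nat.shiftRight m k) 1 = (m.testBit k).toNat := by
        change (m >>> k) &&& 1 = _
        rw [Nat.and_one_is_mod, Nat.testBit, Nat.and_comm, Nat.and_one_is_mod]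
        rcases Nat.mod_two_eq_zero_or_one (m >>> k) with h | h <;> simp [h]
      rw [e3]
      change Nat.testBit ((m.testBit k).toNat <<< (papp P k)) j = true ↔ _
      rw [Nat.testBit_shiftLeft]
      cases m.testBit k
      · simp
      · simp only [Bool.toNat_true, ge_iff_le, Bool.and_eq_true, decide_eq_true_eq, true_and]
        constructor
        · rintro ⟨h1, h2⟩
          rw [Nat.testBit_one_eq_true_iff_self_eq_zero] at h2
          omega
        · rintro rfl; simp
    rw [e2]
    constructor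
    · rintro (⟨h1, h2⟩ | ⟨i, hi, h1, h2⟩)
      · exact ⟨k, Nat.lt_succ_self k, h1, h2⟩
      · exact ⟨i, Nat.lt_succ_of_lt hi, h1, h2⟩
    · rintro ⟨i, hi, h1, h2⟩
      rcases Nat.lt_succ_iff_lt_or_eq.1 hi with h | rfl
      · exact Or.inr ⟨i, h, h1, h2⟩
      · exact Or.inl ⟨h1, h2⟩

theorem testBit_img (P m j : ℕ) :
    (img P m).testBit j = true ↔ ∃ i < 24, m.testBit i = true ∧ papp P i = j := img_aux P m 24 j

theorem mset_img {P Q : ℕ} (h : permOK P Q = true) (m : ℕ) :
    mset (img P m) = toPerm P Q h • mset m := by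
  ext p
  rw [mem_mset, testBit_img, Finset.mem_smul_finset]
  constructor
  · rintro ⟨i, hi, h1, h2⟩
    refine ⟨ofIdx i, ?_, ?_⟩
    · rw [mem_mset, toIdx_ofIdx hi]; exact h1
    · rw [Equiv.Perm.smul_def, ← toIdx_inj, toIdx_toPerm, toIdx_ofIdx hi, h2]
  · rintro ⟨q, hq, rfl⟩
    refine ⟨toIdx q, toIdx_lt q, mem_mset.1 hq, ?_⟩
    rw [Equiv.Perm.smul_def, toIdx_toPerm]

theorem img_lt {P Q : ℕ} (h : permOK P Q = true) (m : ℕ) : img P m < 2 ^ 24 := by
  apply Nat.lt_pow_two_of_testBit
  intro i hi
  by_contra hne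
  rw [Bool.not_eq_false, testBit_img] at hne
  obtain ⟨j, hj, _, h2⟩ := hne
  have := (permOK_iff.1 h j hj).1.1
  omega

theorem mem_M24_iff {g : Equiv.Perm GolayPt} :
    g ∈ M24 ↔ ∀ s ∈ supports (golayCode : Set (GolayPt → ZMod 2)),
      g • s ∈ supports (golayCode : Set (GolayPt → ZMod 2)) := by
  change g ∈ MulAction.stabilizer (Equiv.Perm GolayPt) (supports (golayCode : Set (GolayPt → ZMod 2))) ↔ _
  rw [MulAction.mem_stabilizer_iff]
  constructor
  · intro h s hs
    have := Set.smul_mem_smul_set (a := g) hs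
    rwa [h] at this
  · intro h
    apply Set.eq_of_subset_of_ncard_le
    · rintro _ ⟨s, hs, rfl⟩
      exact h s hs
    · exact le_of_eq (Set.ncard_smul_set _ _).symm
    · exact Set.toFinite _

theorem smul_mem_supports {g : Equiv.Perm GolayPt} (hg : g ∈ M24) {s : Finset GolayPt} :
    g • s ∈ supports (golayCode : Set (GolayPt → ZMod 2)) ↔
      s ∈ supports (golayCode : Set (GolayPt → ZMod 2)) := by
  constructor
  · intro h
    have := mem_M24_iff.1 (M24.inv_mem hg) _ h
    rwa [inv_smul_smul] at this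
  · exact fun h => mem_M24_iff.1 hg s h

theorem smul_symmDiff' (g : Equiv.Perm GolayPt) (s t : Finset GolayPt) :
    g • symmDiff s t = symmDiff (g • s) (g • t) := Finset.smul_finset_symmDiff

theorem smul_encL_mem (g : Equiv.Perm GolayPt) (l : List ℕ)
    (h : ∀ b ∈ l, g • mset b ∈ supports (golayCode : Set (GolayPt → ZMod 2))) (m : ℕ) :
    g • mset (encL l m) ∈ supports (golayCode : Set (GolayPt → ZMod 2)) := by
  have h0 : g • mset 0 ∈ supports (golayCode : Set (GolayPt → ZMod 2)) := by
    have : mset 0 = ∅ := by ext p; simp [mset]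
    rw [this, Finset.smul_finset_empty, ← this]
    rw [mset_mem_supports (by norm_num)]; decide +kernel
  induction l generalizing m with
  | nil => rw [encL_nil]; exact h0
  | cons b l ih =>
    rw [encL_cons, mset_xor, smul_symmDiff']
    refine symmDiff_mem_supports ?_ (ih (fun b hb => h b (List.mem_cons_of_mem _ hb)) _)
    rcases Nat.mod_two_eq_zero_or_one m with hx | hx
    · rw [hx, zero_mul]; exact h0
    · rw [hx, one_mul]; exact h b List.mem_cons_self

theorem mem_M24_of_bas {g : Equiv.Perm GolayPt}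
    (h : ∀ b ∈ Bas, g • mset b ∈ supports (golayCode : Set (GolayPt → ZMod 2))) : g ∈ M24 := by
  rw [mem_M24_iff]
  intro s hs
  obtain ⟨x, _, rfl⟩ := mem_supports.1 hs
  exact smul_encL_mem g Bas h x

/-- test for a packed permutation to preserve the code -/
def inM24 (P : ℕ) : Bool := Bas.all (fun b => force (img P b) inCode)

theorem toPerm_mem_M24 {P Q : ℕ} (h : permOK P Q = true) (h' : inM24 P = true) :
    toPerm P Q h ∈ M24 := by
  apply mem_M24_of_bas
  intro b hb
  unfold inM24 at h'
  rw [List.all_eq_true] at h'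
  have := h' b hb
  rw [force_eq] at this
  rw [← mset_img h, mset_mem_supports (img_lt h b)]
  exact this

/-- an arbitrary permutation in packed form -/
theorem exists_packed (g : Equiv.Perm GolayPt) :
    ∀ p, g p = g p := fun _ => rfl

end CfsgL.Golay
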