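import Cfsg.Agent.L.Golay.Order2
import Cfsg.Agent.L.SimpleCrit
/-!
Simplicity of the Mathieu groups M22, M23, M24 (pointwise stabilisers).
-/
set_option autoImplicit false
namespace CfsgL.Golay
open Cfsg CfsgL.Comp
open scoped Pointwise

/-- iterated application of a packed permutation -/
def itP (P k i : ℕ) : ℕ := Nat.rec (motive := fun _ => ℕ) i (fun _ ih => papp P ih) k

/-- the `k`-th power is trivial -/
def ordOK (k P : ℕ) : Bool := allR (fun i => Nat.beq (itP P k i) i) 24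

theorem itP_eq {P Q : ℕ} (h : permOK P Q = true) (k : ℕ) (p : GolayPt) :
    toIdx ((toPerm P Q h ^ k) p) = itP P k (toIdx p) := by
  induction k with
  | zero => rfl
  | succ k ih =>
    rw [pow_succ', Equiv.Perm.mul_apply, toIdx_toPerm, ih]; rfl

theorem pow_eq_one_of_ordOK {P Q k : ℕ} (h : permOK P Q = true) (h' : ordOK k P = true) :
    toPerm P Q h ^ k = 1 := by
  ext p
  unfold ordOK at h'
  rw [allR_iff] at h'
  have h1 := natBeq_iff.1 (h' _ (toIdx_lt p))
  have h2 : (toPerm P Q h ^ k) p = p := by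
    rw [← toIdx_inj, itP_eq, h1]
  rw [h2]; rfl

/-- all entries have order dividing `k` -/
def trOrd (k : ℕ) (l : List (ℕ × ℕ)) : Bool := l.all (fun x => ordOK k x.1)

theorem tr_exists_ord {fx : List ℕ} {l : List (ℕ × ℕ)} {b k : ℕ} {f : ℕ → Bool}
    (h1 : trOK fx l = true) (h2 : trCov b f l = true) (h0 : trOrd k l = true) (hb : b < 24)
    (q : GolayPt) (hq : f (toIdx q) = true) :
    ∃ g ∈ M24, (∀ i ∈ fx, ∀ p, toIdx p = i → g p = p) ∧ g (ofIdx b) = q ∧ g ^ k = 1 := by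
  unfold trCov at h2
  rw [allR_iff] at h2
  have h3 := h2 (toIdx q) (toIdx_lt q)
  rw [hq] at h3
  simp only [Bool.not_true, Bool.false_or, List.any_eq_true, natBeq_iff] at h3
  obtain ⟨x, hx, h3⟩ := h3
  unfold trOK at h1
  rw [List.all_eq_true] at h1
  have h4 := h1 x hx
  simp only [Bool.and_eq_true, List.all_eq_true, natBeq_iff] at h4
  obtain ⟨⟨h5, h6⟩, h7⟩ := h4
  unfold trOrd at h0
  rw [List.all_eq_true] at h0
  refine ⟨toPerm x.1 x.2 h5, toPerm_mem_M24 h5 h6, ?_, ?_, pow_eq_one_of_ordOK h5 (h0 x hx)⟩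
  · rintro i hi p rfl
    rw [← toIdx_inj, toIdx_toPerm]
    exact h7 _ hi
  · rw [← toIdx_inj, toIdx_toPerm, toIdx_ofIdx hb, h3]

theorem trOrd1 : trOrd 24 tr1 = true := by decide +kernel
theorem trOrd2 : trOrd 24 tr2 = true := by decide +kernel
theorem trOrd3 : trOrd 24 tr3 = true := by decide +kernel
theorem trOrd4 : trOrd 24 tr4 = true := by decide +kernel
theorem trOrd5 : trOrd 24 tr5 = true := by decide +kernel
theorem trOrd6 : trOrd 24 tr6 = true := by decide +kernel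

/-- the subgroup generated by the elements of order dividing 24 of a pointwise stabiliser -/
def K24 (L : List GolayPt) : Subgroup (Equiv.Perm GolayPt) :=
  Subgroup.closure {u | u ∈ fx L ∧ u ^ 24 = 1}

theorem fx_mono {L L' : List GolayPt} (h : ∀ p ∈ L, p ∈ L') : fx L' ≤ fx L :=
  fun _ hg => ⟨hg.1, fun p hp => hg.2 p (h p hp)⟩

theorem K24_mono {L L' : List GolayPt} (h : ∀ p ∈ L, p ∈ L') : K24 L' ≤ K24 L :=
  Subgroup.closure_mono (fun _ hu => ⟨fx_mono h hu.1, hu.2⟩)

theorem gen_step (L : List GolayPt) (b : GolayPt)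
    (h1 : ∀ g ∈ fx L, ∃ u ∈ fx L, u ^ 24 = 1 ∧ u b = g b) (h2 : fx (b :: L) ≤ K24 (b :: L)) :
    fx L ≤ K24 L := by
  intro g hg
  obtain ⟨u, hu, hu24, hub⟩ := h1 g hg
  have h3 : u⁻¹ * g ∈ fx (b :: L) := by
    rw [← fx_cons, Subgroup.mem_inf]
    refine ⟨(fx L).mul_mem ((fx L).inv_mem hu) hg, ?_⟩
    rw [MulAction.mem_stabilizer_iff]
    change u⁻¹ (g b) = b
    rw [← hub]; simp
  have h4 := K24_mono (L := L) (fun p hp => List.mem_cons_of_mem b hp) (h2 h3)
  have h5 : u ∈ K24 L := Subgroup.subset_closure ⟨hu, hu24⟩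
  have := (K24 L).mul_mem h5 h4
  rwa [mul_inv_cancel_left] at this

theorem fx6_range {g : Equiv.Perm GolayPt} (hg : g ∈ fx [bp 5, bp 3, bp 2, bp 1, bp 0, bp 23]) :
    g (bp 4) ∉ mset 0x82402f := by
  have ho : mset 0x82402f ∈ octads := mem_octads_mset (by decide +kernel) (by decide +kernel)
  have h1 : g • mset 0x82402f = mset 0x82402f := by
    refine fix_octad hg.1 (F := mset 0x80002f) ?_ ho ?_
    · intro p hp
      have key : ∀ p ∈ mset 0x80002f, p ∈ [bp 5, bp 3, bp 2, bp 1, bp 0, bp 23] := by decide +kernel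
      exact hg.2 p (key p hp)
    · rw [← mset_and, card_mset]; decide +kernel
  intro h
  rw [← h1, Finset.mem_smul_finset] at h
  obtain ⟨y, hy, h2⟩ := h
  have : y = bp 4 := g.injective h2
  rw [this] at hy
  revert hy; decide +kernel

theorem fx5_range {g : Equiv.Perm GolayPt} (hg : g ∈ fx [bp 3, bp 2, bp 1, bp 0, bp 23]) :
    g (bp 5) ∈ mset 0x24020 := by
  have ho : mset 0x82402f ∈ octads := mem_octads_mset (by decide +kernel) (by decide +kernel)
  have h1 : g • mset 0x82402f = mset 0x82402f := by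
    refine fix_octad hg.1 (F := mset 0x80000f) ?_ ho ?_
    · intro p hp
      have key : ∀ p ∈ mset 0x80000f, p ∈ [bp 3, bp 2, bp 1, bp 0, bp 23] := by decide +kernel
      exact hg.2 p (key p hp)
    · rw [← mset_and, card_mset]; decide +kernel
  have h2 : g (bp 5) ∈ mset 0x82402f := by
    rw [← h1, Finset.mem_smul_finset]
    exact ⟨bp 5, by decide +kernel, rfl⟩
  have h3 : g (bp 5) ∉ mset 0x80000f := by
    intro h
    have key : ∀ p ∈ mset 0x80000f, p ∈ [bp 3, bp 2, bp 1, bp 0, bp 23] := by decide +kernel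
    have h4 := hg.2 _ (key _ h)
    have h5 : g (bp 5) = bp 5 := g.injective h4
    rw [h5] at h
    revert h; decide +kernel
  have key : ∀ q : GolayPt, q ∈ mset 0x82402f → q ∉ mset 0x80000f → q ∈ mset 0x24020 := by
    decide +kernel
  exact key _ h2 h3

theorem fx_ne {L : List GolayPt} {g : Equiv.Perm GolayPt} (hg : g ∈ fx L) {b : GolayPt}
    (hb : b ∉ L) : g b ∉ L := by
  intro h
  have h1 := hg.2 _ h
  rw [g.injective h1] at h
  exact hb h

theorem gen6 : fx [bp 5, bp 3, bp 2, bp 1, bp 0, bp 23] ≤ K24 [bp 5, bp 3, bp 2, bp 1, bp 0, bp 23] := by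
  refine gen_step _ (bp 4) ?_ ?_
  · intro g hg
    have h0 := fx6_range hg
    have key : ∀ q : GolayPt, q ∉ mset 0x82402f → notIn [23, 0, 1, 2, 3, 5, 14, 17] (toIdx q) = true := by
      decide +kernel
    obtain ⟨u, hu, h1, h2, h3⟩ := tr_exists_ord trOK6 trCov6 trOrd6 (by norm_num) (g (bp 4)) (key _ h0)
    refine ⟨u, ⟨hu, ?_⟩, h3, h2⟩
    intro p hp
    refine h1 (toIdx p) ?_ p rfl
    have key : ∀ p ∈ [bp 5, bp 3, bp 2, bp 1, bp 0, bp 23], toIdx p ∈ [23, 0, 1, 2, 3, 5] := by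
      decide +kernel
    exact key p hp
  · rw [fx_base_trivial]; exact bot_le

theorem gen5 : fx [bp 3, bp 2, bp 1, bp 0, bp 23] ≤ K24 [bp 3, bp 2, bp 1, bp 0, bp 23] := by
  refine gen_step _ (bp 5) ?_ gen6
  intro g hg
  have h0 := fx5_range hg
  have key : ∀ q : GolayPt, q ∈ mset 0x24020 →
      (fun q => (Nat.beq q 5).or ((Nat.beq q 14).or (Nat.beq q 17))) (toIdx q) = true := by
    decide +kernel
  obtain ⟨u, hu, h1, h2, h3⟩ := tr_exists_ord trOK5 trCov5 trOrd5 (by norm_num) (g (bp 5)) (key _ h0)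
  refine ⟨u, ⟨hu, ?_⟩, h3, h2⟩
  intro p hp
  refine h1 (toIdx p) ?_ p rfl
  have key : ∀ p ∈ [bp 3, bp 2, bp 1, bp 0, bp 23], toIdx p ∈ [23, 0, 1, 2, 3] := by
    decide +kernel
  exact key p hp

theorem gen4 : fx [bp 2, bp 1, bp 0, bp 23] ≤ K24 [bp 2, bp 1, bp 0, bp 23] := by
  refine gen_step _ (bp 3) ?_ gen5
  intro g hg
  have h0 := fx_ne hg (b := bp 3) (by decide +kernel)
  have key : ∀ q : GolayPt, q ∉ [bp 2, bp 1, bp 0, bp 23] → notIn [23, 0, 1, 2] (toIdx q) = true := by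
    decide +kernel
  obtain ⟨u, hu, h1, h2, h3⟩ := tr_exists_ord trOK4 trCov4 trOrd4 (by norm_num) (g (bp 3)) (key _ h0)
  refine ⟨u, ⟨hu, ?_⟩, h3, h2⟩
  intro p hp
  refine h1 (toIdx p) ?_ p rfl
  have key : ∀ p ∈ [bp 2, bp 1, bp 0, bp 23], toIdx p ∈ [23, 0, 1, 2] := by
    decide +kernel
  exact key p hp

theorem gen3 : fx [bp 1, bp 0, bp 23] ≤ K24 [bp 1, bp 0, bp 23] := by
  refine gen_step _ (bp 2) ?_ gen4
  intro g hg
  have h0 := fx_ne hg (b := bp 2) (by decide +kernel)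
  have key : ∀ q : GolayPt, q ∉ [bp 1, bp 0, bp 23] → notIn [23, 0, 1] (toIdx q) = true := by
    decide +kernel
  obtain ⟨u, hu, h1, h2, h3⟩ := tr_exists_ord trOK3 trCov3 trOrd3 (by norm_num) (g (bp 2)) (key _ h0)
  refine ⟨u, ⟨hu, ?_⟩, h3, h2⟩
  intro p hp
  refine h1 (toIdx p) ?_ p rfl
  have key : ∀ p ∈ [bp 1, bp 0, bp 23], toIdx p ∈ [23, 0, 1] := by
    decide +kernel
  exact key p hp

theorem gen2 : fx [bp 0, bp 23] ≤ K24 [bp 0, bp 23] := by
  refine gen_step _ (bp 1) ?_ gen3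
  intro g hg
  have h0 := fx_ne hg (b := bp 1) (by decide +kernel)
  have key : ∀ q : GolayPt, q ∉ [bp 0, bp 23] → notIn [23, 0] (toIdx q) = true := by
    decide +kernel
  obtain ⟨u, hu, h1, h2, h3⟩ := tr_exists_ord trOK2 trCov2 trOrd2 (by norm_num) (g (bp 1)) (key _ h0)
  refine ⟨u, ⟨hu, ?_⟩, h3, h2⟩
  intro p hp
  refine h1 (toIdx p) ?_ p rfl
  have key : ∀ p ∈ [bp 0, bp 23], toIdx p ∈ [23, 0] := by
    decide +kernel
  exact key p hp

theorem gen1 : fx [bp 23] ≤ K24 [bp 23] := by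
  refine gen_step _ (bp 0) ?_ gen2
  intro g hg
  have h0 := fx_ne hg (b := bp 0) (by decide +kernel)
  have key : ∀ q : GolayPt, q ∉ [bp 23] → notIn [23] (toIdx q) = true := by
    decide +kernel
  obtain ⟨u, hu, h1, h2, h3⟩ := tr_exists_ord trOK1 trCov1 trOrd1 (by norm_num) (g (bp 0)) (key _ h0)
  refine ⟨u, ⟨hu, ?_⟩, h3, h2⟩
  intro p hp
  refine h1 (toIdx p) ?_ p rfl
  have key : ∀ p ∈ [bp 23], toIdx p ∈ [23] := by
    decide +kernel
  exact key p hp

/-- generation statement inside the subgroup type -/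
theorem closure_sub {L : List GolayPt} (h : fx L ≤ K24 L) :
    Subgroup.closure {u : fx L | u ^ 24 = 1} = ⊤ := by
  rw [eq_top_iff]
  intro g _
  have h1 := h g.2
  have h2 : (Subgroup.closure {u : fx L | u ^ 24 = 1}).map (fx L).subtype = K24 L := by
    rw [MonoidHom.map_closure]
    congr 1
    ext u
    constructor
    · rintro ⟨v, hv, rfl⟩
      exact ⟨v.2, by rw [Set.mem_ofPred_eq] at hv; exact congrArg Subtype.val hv⟩
    · rintro ⟨hu, hu'⟩
      exact ⟨⟨u, hu⟩, Subtype.ext hu', rfl⟩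
  rw [← h2] at h1
  obtain ⟨v, hv, hvg⟩ := h1
  have : v = g := Subtype.ext hvg
  rwa [this] at hv

/-- the points outside the list, as an invariant subset -/
def Om (L : List GolayPt) : SubMulAction (fx L) GolayPt where
  carrier := {q | q ∉ L}
  smul_mem' g _ hq := fx_ne g.2 hq

theorem Om_two_trans (L : List GolayPt)
    (h : ∀ a b c d : GolayPt, a ∉ L → b ∉ L → c ∉ L → d ∉ L → a ≠ b → c ≠ d →
      ∃ g ∈ fx L, g a = c ∧ g b = d) : MulAction.IsMultiplyPretransitive (fx L) (Om L) 2 := by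
  rw [MulAction.is_two_pretransitive_iff]
  intro a b c d hab hcd
  obtain ⟨g, hg, h1, h2⟩ := h a b c d a.2 b.2 c.2 d.2 (fun h' => hab (Subtype.ext h'))
    (fun h' => hcd (Subtype.ext h'))
  exact ⟨⟨g, hg⟩, Subtype.ext h1, Subtype.ext h2⟩

instance Om_faithful (L : List GolayPt) : FaithfulSMul (fx L) (Om L) := by
  constructor
  intro g h hgh
  apply Subtype.ext
  apply Equiv.ext
  intro p
  by_cases hp : p ∈ L
  · rw [g.2.2 p hp, h.2.2 p hp]
  · exact congrArg Subtype.val (hgh ⟨p, hp⟩)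

/-- a nontrivial normal subgroup of a 2-transitive group has order divisible by the degree -/
theorem degree_dvd_normal {G α : Type*} [Group G] [Finite G] [MulAction G α] [Finite α]
    [Nonempty α] [FaithfulSMul G α] (h2 : MulAction.IsMultiplyPretransitive G α 2)
    (N : Subgroup G) [N.Normal] (hN : N ≠ ⊥) : Nat.card α ∣ Nat.card N := by
  have hprim : MulAction.IsPreprimitive G α := MulAction.isPreprimitive_of_is_two_pretransitive h2
  have hfix : MulAction.fixedPoints N α ≠ Set.univ := by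
    intro h
    apply hN
    rw [eq_bot_iff]
    intro n hn
    rw [Subgroup.mem_bot]
    apply FaithfulSMul.eq_of_smul_eq_smul (α := α)
    intro b
    have : b ∈ MulAction.fixedPoints N α := by rw [h]; trivial
    rw [one_smul]
    exact this ⟨n, hn⟩
  have htr : MulAction.IsPretransitive N α := MulAction.IsQuasiPreprimitive.isPretransitive_of_normal hfix
  obtain ⟨a⟩ := ‹Nonempty α›
  have h1 := MulAction.index_stabilizer_of_transitive N a
  rw [← h1]
  exact Subgroup.index_dvd_card _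

end CfsgL.Golay
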