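import Cfsg.Agent.L.Golay.Agree
import Cfsg.Agent.L.Golay.Simple
/-!
Simplicity of M23, M22 and M24.
-/
set_option autoImplicit false
namespace CfsgL.Golay
open Cfsg CfsgL.Comp
open scoped Pointwise

theorem ofIdx_some {i : ℕ} (h : i < 23) : ofIdx i = some (i : ZMod 23) := by
  unfold ofIdx; rw [if_neg (by omega)]

theorem T1_some (x : ZMod 23) : T1 (some x) = some (x + 1) := rfl
theorem T1_none : T1 none = none := rfl

theorem T1_pow_some (k : ℕ) (x : ZMod 23) : (T1 ^ k) (some x) = some (x + k) := by
  induction k with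
  | zero => simp
  | succ k ih =>
    rw [pow_succ', Equiv.Perm.mul_apply, ih, T1_some]; push_cast; ring_nf

theorem T1_pow_none (k : ℕ) : (T1 ^ k) none = none := by
  induction k with
  | zero => simp
  | succ k ih => rw [pow_succ', Equiv.Perm.mul_apply, ih, T1_none]

theorem T1_pow_23 : T1 ^ 23 = 1 := by
  ext p : 1
  cases p with
  | none => rw [T1_pow_none]; rfl
  | some x =>
    rw [T1_pow_some]
    have : ((23 : ℕ) : ZMod 23) = 0 := by decide
    rw [this, add_zero]; rfl

theorem T1_ne : T1 ≠ 1 := by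
  intro h
  have := congrArg (fun g => g (some 0)) h
  revert this
  decide

/-- a permutation commuting with the translation is a power of it -/
theorem comm_T1 {g : Equiv.Perm GolayPt} (h0 : g none = none) (h : g * T1 = T1 * g) :
    ∃ k : ℕ, g = T1 ^ k := by
  have h1 : g (some 0) ≠ none := by
    intro h2
    rw [← h0] at h2
    exact absurd (g.injective h2) (by decide)
  obtain ⟨a, ha⟩ := Option.ne_none_iff_exists'.1 h1
  refine ⟨a.val, ?_⟩
  have hk : ∀ k : ℕ, g * T1 ^ k = T1 ^ k * g := fun k => Commute.pow_right h k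
  ext p : 1
  cases p with
  | none => rw [h0, T1_pow_none]
  | some x =>
    have h2 := congrArg (fun g => g (some 0)) (hk x.val)
    simp only [Equiv.Perm.mul_apply] at h2
    rw [T1_pow_some, ha, T1_pow_some] at h2
    rw [T1_pow_some]
    have e1 : ((x.val : ℕ) : ZMod 23) = x := ZMod.natCast_zmod_val x
    have e2 : ((a.val : ℕ) : ZMod 23) = a := ZMod.natCast_zmod_val a
    rw [e1, zero_add] at h2
    rw [e2, h2, add_comm]

/-- no element of `M24` fixing `∞` inverts the translation -/
theorem not_inv_T1 {g : Equiv.Perm GolayPt} (hg : g ∈ M24) (h0 : g none = none)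
    (h : g * T1 * g⁻¹ = T1⁻¹) : False := by
  have h1 : g (some 0) ≠ none := by
    intro h2
    rw [← h0] at h2
    exact absurd (g.injective h2) (by decide)
  obtain ⟨a, ha⟩ := Option.ne_none_iff_exists'.1 h1
  have h' : T1 * g * T1 = g := by
    have : g * T1 = T1⁻¹ * g := by rw [← h]; group
    rw [mul_assoc, this]; group
  have hk : ∀ k : ℕ, T1 ^ k * g * T1 ^ k = g := by
    intro k
    induction k with
    | zero => simp
    | succ k ih =>
      have : T1 ^ (k + 1) * g * T1 ^ (k + 1) = T1 ^ k * (T1 * g * T1) * T1 ^ k := by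
        rw [pow_succ]
        have : T1 ^ k * T1 = T1 * T1 ^ k := (Commute.pow_self T1 k)
        nth_rewrite 2 [this]
        group
      rw [this, h', ih]
  have hx : ∀ x : ZMod 23, g (some x) = some (a - x) := by
    intro x
    have h2 := congrArg (fun g => g (some 0)) (hk x.val)
    simp only [Equiv.Perm.mul_apply] at h2
    have e1 : ((x.val : ℕ) : ZMod 23) = x := ZMod.natCast_zmod_val x
    rw [T1_pow_some, ha, e1, zero_add] at h2
    cases hgx : g (some x) with
    | none =>
      rw [← h0] at hgx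
      exact absurd (g.injective hgx) (by simp)
    | some y =>
      rw [hgx, T1_pow_some, e1] at h2
      have := Option.some.inj h2
      rw [← this]; ring_nf
  have h3 : Agrees g (pack (fun i => if i < 23 then (a.val + (23 - i)) % 23 else i)) := by
    apply agrees_pack
    intro i hi
    by_cases h : i < 23
    · rw [ofIdx_some h, if_pos h, hx]
      have e2 : a - (i : ZMod 23) = ((a.val + (23 - i) : ℕ) : ZMod 23) := by
        rw [Nat.cast_add, Nat.cast_sub (by omega), ZMod.natCast_zmod_val]
        have : ((23 : ℕ) : ZMod 23) = 0 := by decide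
        rw [this]; ring
      rw [e2]
      change ((a.val + (23 - i) : ℕ) : ZMod 23).val = _
      rw [ZMod.val_natCast]
    · have h2 : i = 23 := by omega
      subst h2
      have : ofIdx 23 = none := rfl
      rw [this, h0]; rfl
  have h4 := h3.mem_M24_iff.1 hg
  have key : ∀ a < 23, inM24 (pack (fun i => if i < 23 then (a + (23 - i)) % 23 else i)) = false := by
    decide +kernel
  rw [key _ (ZMod.val_lt a)] at h4
  exact Bool.false_ne_true h4

theorem bp23 : bp 23 = none := rfl
theorem bp0 : bp 0 = some 0 := rfl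

theorem M23_base : IsSimpleGroup (fx [bp 23]) := by
  haveI : Fact (Nat.Prime 23) := ⟨by norm_num⟩
  have hT : T1 ∈ fx [bp 23] := ⟨T1_mem, by
    intro p hp; rw [List.mem_singleton] at hp; rw [hp]; rfl⟩
  have hord : orderOf (⟨T1, hT⟩ : fx [bp 23]) = 23 := by
    apply orderOf_eq_prime
    · exact Subtype.ext T1_pow_23
    · intro h; exact T1_ne (congrArg Subtype.val h)
  refine CfsgL.simple_of_sylow 23 11 24 (by norm_num) (by norm_num) ⟨T1, hT⟩ hord ?_ ?_ ?_
    (closure_sub gen1) ?_
  · rw [card_fx_base1]; norm_num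
  · intro g hg
    have h1 : (g : Equiv.Perm GolayPt) * T1 = T1 * g := congrArg Subtype.val hg
    obtain ⟨k, hk⟩ := comm_T1 (g.2.2 none (by rw [bp23]; simp)) h1
    rw [Subgroup.mem_zpowers_iff]
    refine ⟨k, ?_⟩
    apply Subtype.ext
    rw [hk]; simp
  · intro g hg
    exact not_inv_T1 g.2.1 (g.2.2 none (by rw [bp23]; simp)) (congrArg Subtype.val hg)
  · intro N hN hNb
    have h2 : MulAction.IsMultiplyPretransitive (fx [bp 23]) (Om [bp 23]) 2 := by
      apply Om_two_trans
      intro a b c d ha hb hc hd hab hcd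
      simp only [List.mem_singleton] at ha hb hc hd
      obtain ⟨e, he⟩ := exists_other [bp 23, a, b] (by simp)
      obtain ⟨f, hf⟩ := exists_other [bp 23, a, b, e] (by simp)
      obtain ⟨e', he'⟩ := exists_other [bp 23, c, d] (by simp)
      obtain ⟨f', hf'⟩ := exists_other [bp 23, c, d, e'] (by simp)
      simp only [List.mem_cons, List.not_mem_nil, or_false, not_or] at he hf he' hf'
      obtain ⟨g, hg, h1, h2, h3, h4, h5⟩ := five_trans (Ne.symm ha) (Ne.symm hb) (Ne.symm he.1)
        (Ne.symm hf.1) hab (Ne.symm he.2.1) (Ne.symm hf.2.1) (Ne.symm he.2.2) (Ne.symm hf.2.2.1)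
        (Ne.symm hf.2.2.2) (Ne.symm hc) (Ne.symm hd) (Ne.symm he'.1)
        (Ne.symm hf'.1) hcd (Ne.symm he'.2.1) (Ne.symm hf'.2.1) (Ne.symm he'.2.2)
        (Ne.symm hf'.2.2.1) (Ne.symm hf'.2.2.2)
      refine ⟨g, ⟨hg, ?_⟩, h2, h3⟩
      intro p hp
      rw [List.mem_singleton] at hp
      rw [hp, h1]
    haveI : Nonempty (Om [bp 23]) := ⟨⟨bp 0, by
      change bp 0 ∉ [bp 23]; decide⟩⟩
    have h3 := degree_dvd_normal h2 N hNb
    have h4 : Nat.card (Om [bp 23]) = 23 := by
      have : Nat.card (Om [bp 23]) = ({q | q ∉ [bp 23]} : Set GolayPt).ncard := rfl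
      rw [this, Set.ncard_eq_toFinset_card']; decide +kernel
    rwa [h4] at h3

end CfsgL.Golay
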