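import Cfsg.Agent.L.Golay.Simple2
/-!
Simplicity of M22 and M24.
-/
set_option autoImplicit false
namespace CfsgL.Golay
open Cfsg CfsgL.Comp
open scoped Pointwise

/-- the unit 2 -/
def u2 : (ZMod 23)ˣ := ⟨2, 12, by decide, by decide⟩

/-- multiplication by 2 -/
def S2 : Equiv.Perm GolayPt := Equiv.optionCongr (Units.mulLeft u2)

theorem S2_some (x : ZMod 23) : S2 (some x) = some (2 * x) := rfl
theorem S2_none : S2 none = none := rfl

theorem S2_pow_some (k : ℕ) (x : ZMod 23) : (S2 ^ k) (some x) = some (2 ^ k * x) := by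
  induction k with
  | zero => simp
  | succ k ih =>
    rw [pow_succ', Equiv.Perm.mul_apply, ih, S2_some]; ring_nf

theorem S2_pow_none (k : ℕ) : (S2 ^ k) none = none := by
  induction k with
  | zero => simp
  | succ k ih => rw [pow_succ', Equiv.Perm.mul_apply, ih, S2_none]

theorem S2_pow_11 : S2 ^ 11 = 1 := by
  ext p : 1
  cases p with
  | none => rw [S2_pow_none]; rfl
  | some x =>
    rw [S2_pow_some]
    have : (2 : ZMod 23) ^ 11 = 1 := by decide
    rw [this, one_mul]; rfl

theorem S2_ne : S2 ≠ 1 := by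
  intro h
  have := congrArg (fun g => g (some 1)) h
  revert this
  decide

theorem S2_mem : S2 ∈ M24 := sqmul_mem u2 ⟨⟨5, 14, by decide, by decide⟩, by ext; decide⟩

/-- nonzero residues are `± 2 ^ k` -/
theorem res_cases : ∀ x : ZMod 23, x ≠ 0 → ∃ k < 11, x = 2 ^ k * 1 ∨ x = 2 ^ k * (-1) := by
  decide

/-- the function with given values at `1` and `-1` commuting with `S2` -/
def fC (a b i : ℕ) : ℕ :=
  if i = 0 then 0 else if i = 23 then 23 else
    if i ^ 11 % 23 = 1 then (i * a) % 23 else ((23 - i) * b) % 23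

/-- the pair of values comes from a power of `S2` -/
def chkC (a b : ℕ) : Bool :=
  (List.range 11).any (fun k => decide (a = 2 ^ k % 23) && decide (b = (22 * 2 ^ k) % 23))

/-- the function with given values at `1` and `-1` inverting `S2` -/
def fI (a b i : ℕ) : ℕ :=
  if i = 0 then 0 else if i = 23 then 23 else
    if i ^ 11 % 23 = 1 then (i ^ 21 % 23 * a) % 23 else ((23 - i) ^ 21 % 23 * b) % 23

theorem some_of_fx {g : Equiv.Perm GolayPt} (hn : g none = none) (x : ZMod 23) :
    ∃ y, g (some x) = some y := by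
  have h1 : g (some x) ≠ none := by
    intro h2
    rw [← hn] at h2
    exact absurd (g.injective h2) (by simp)
  exact Option.ne_none_iff_exists'.1 h1

theorem some_ne_zero {g : Equiv.Perm GolayPt} (h0 : g (some 0) = some 0) {x y : ZMod 23}
    (hx : x ≠ 0) (h : g (some x) = some y) : y ≠ 0 := by
  rintro rfl
  rw [← h0] at h
  exact hx (Option.some.inj (g.injective h))

theorem comm_S2 {g : Equiv.Perm GolayPt} (hg : g ∈ M24) (h0 : g (some 0) = some 0)
    (hn : g none = none) (h : g * S2 = S2 * g) : ∃ k : ℕ, g = S2 ^ k := by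
  obtain ⟨a, ha⟩ := some_of_fx hn 1
  obtain ⟨b, hb⟩ := some_of_fx hn (-1)
  have ha0 : a ≠ 0 := some_ne_zero h0 (by decide) ha
  have hb0 : b ≠ 0 := some_ne_zero h0 (by decide) hb
  have hk : ∀ k : ℕ, g * S2 ^ k = S2 ^ k * g := fun k => Commute.pow_right h k
  have h1 : ∀ k : ℕ, g (some (2 ^ k * 1)) = some (2 ^ k * a) := by
    intro k
    have := congrArg (fun g => g (some 1)) (hk k)
    simp only [Equiv.Perm.mul_apply] at this
    rw [S2_pow_some, ha, S2_pow_some] at this
    exact this
  have h2 : ∀ k : ℕ, g (some (2 ^ k * (-1))) = some (2 ^ k * b) := by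
    intro k
    have := congrArg (fun g => g (some (-1))) (hk k)
    simp only [Equiv.Perm.mul_apply] at this
    rw [S2_pow_some, hb, S2_pow_some] at this
    exact this
  have h3 : Agrees g (pack (fC a.val b.val)) := by
    apply agrees_pack
    intro i hi
    by_cases h : i < 23
    · rw [ofIdx_some h]
      by_cases hi0 : i = 0
      · subst hi0
        have : ((0 : ℕ) : ZMod 23) = 0 := rfl
        rw [this, h0]; rfl
      · have hx : ((i : ℕ) : ZMod 23) ≠ 0 := by
          rw [Ne, ZMod.natCast_eq_zero_iff]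
          exact fun hd => absurd (Nat.le_of_dvd (by omega) hd) (by omega)
        have hv : i = ((i : ℕ) : ZMod 23).val := by
          rw [ZMod.val_natCast, Nat.mod_eq_of_lt h]
        obtain ⟨k, hk11, hk | hk⟩ := res_cases _ hx
        · rw [hk, h1 k, toIdx_some]
          have e1 : ∀ k < 11, ((2 : ZMod 23) ^ k * 1).val ^ 11 % 23 = 1 := by decide +kernel
          have e2 := e1 k hk11
          rw [← hk, ← hv] at e2
          unfold fC
          rw [if_neg hi0, if_neg (by omega), if_pos e2]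
          rw [ZMod.val_mul]
          have e3 : ((2 : ZMod 23) ^ k).val = i := by
            rw [hv, hk, mul_one]
          rw [e3]
        · rw [hk, h2 k, toIdx_some]
          have e1 : ∀ k < 11, ((2 : ZMod 23) ^ k * (-1)).val ^ 11 % 23 ≠ 1 ∧
              23 - ((2 : ZMod 23) ^ k * (-1)).val = ((2 : ZMod 23) ^ k).val := by decide +kernel
          have e2 := e1 k hk11
          rw [← hk, ← hv] at e2
          unfold fC
          rw [if_neg hi0, if_neg (by omega), if_neg e2.1]
          rw [ZMod.val_mul, ← e2.2]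
    · have h2 : i = 23 := by omega
      subst h2
      have : ofIdx 23 = none := rfl
      rw [this, hn]; rfl
  have h4 := h3.mem_M24_iff.1 hg
  have key : ∀ a < 23, a ≠ 0 → ∀ b < 23, b ≠ 0 → inM24 (pack (fC a b)) = true →
      chkC a b = true := by decide +kernel
  have h5 := key _ (ZMod.val_lt a) (by rwa [Ne, ZMod.val_eq_zero]) _
    (ZMod.val_lt b) (by rwa [Ne, ZMod.val_eq_zero]) h4
  unfold chkC at h5
  rw [List.any_eq_true] at h5
  obtain ⟨k, hk11, h5⟩ := h5
  rw [Bool.and_eq_true, decide_eq_true_eq, decide_eq_true_eq] at h5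
  obtain ⟨ek1, ek2⟩ := h5
  have ea : a = 2 ^ k := by
    rw [← ZMod.natCast_zmod_val a, ek1]
    have : ((2 ^ k % 23 : ℕ) : ZMod 23) = ((2 ^ k : ℕ) : ZMod 23) := ZMod.natCast_mod _ _
    rw [this]; push_cast; rfl
  have eb : b = - 2 ^ k := by
    rw [← ZMod.natCast_zmod_val b, ek2]
    have : ((22 * 2 ^ k % 23 : ℕ) : ZMod 23) = ((22 * 2 ^ k : ℕ) : ZMod 23) := ZMod.natCast_mod _ _
    rw [this]; push_cast
    have : (22 : ZMod 23) = -1 := by decide
    rw [this]; ring
  refine ⟨k, ?_⟩
  ext p : 1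
  cases p with
  | none => rw [hn, S2_pow_none]
  | some x =>
    rw [S2_pow_some]
    by_cases hx : x = 0
    · rw [hx, h0, mul_zero]
    · obtain ⟨j, hj, e | e⟩ := res_cases x hx
      · rw [e, h1, ea]; ring_nf
      · rw [e, h2, eb]; ring_nf

theorem not_inv_S2 {g : Equiv.Perm GolayPt} (hg : g ∈ M24) (h0 : g (some 0) = some 0)
    (hn : g none = none) (h : g * S2 * g⁻¹ = S2⁻¹) : False := by
  obtain ⟨a, ha⟩ := some_of_fx hn 1
  obtain ⟨b, hb⟩ := some_of_fx hn (-1)
  have ha0 : a ≠ 0 := some_ne_zero h0 (by decide) ha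
  have hb0 : b ≠ 0 := some_ne_zero h0 (by decide) hb
  have h' : S2 * g * S2 = g := by
    have : g * S2 = S2⁻¹ * g := by rw [← h]; group
    rw [mul_assoc, this]; group
  have hk : ∀ k : ℕ, S2 ^ k * g * S2 ^ k = g := by
    intro k
    induction k with
    | zero => simp
    | succ k ih =>
      have : S2 ^ (k + 1) * g * S2 ^ (k + 1) = S2 ^ k * (S2 * g * S2) * S2 ^ k := by
        rw [pow_succ]
        have : S2 ^ k * S2 = S2 * S2 ^ k := (Commute.pow_self S2 k)
        nth_rewrite 2 [this]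
        group
      rw [this, h', ih]
  have hinv : ∀ k : ℕ, (2 : ZMod 23) ^ k * 12 ^ k = 1 := by
    intro k
    rw [← mul_pow]
    have : (2 * 12 : ZMod 23) = 1 := by decide
    rw [this, one_pow]
  have h1 : ∀ k : ℕ, g (some (2 ^ k * 1)) = some (12 ^ k * a) := by
    intro k
    have := congrArg (fun g => g (some 1)) (hk k)
    simp only [Equiv.Perm.mul_apply] at this
    rw [S2_pow_some, ha] at this
    obtain ⟨y, hy⟩ := some_of_fx hn (2 ^ k * 1)
    rw [hy, S2_pow_some] at this
    rw [hy, ← Option.some.inj this, ← mul_assoc, mul_comm (12 ^ k), hinv, one_mul]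
  have h2 : ∀ k : ℕ, g (some (2 ^ k * (-1))) = some (12 ^ k * b) := by
    intro k
    have := congrArg (fun g => g (some (-1))) (hk k)
    simp only [Equiv.Perm.mul_apply] at this
    rw [S2_pow_some, hb] at this
    obtain ⟨y, hy⟩ := some_of_fx hn (2 ^ k * (-1))
    rw [hy, S2_pow_some] at this
    rw [hy, ← Option.some.inj this, ← mul_assoc, mul_comm (12 ^ k), hinv, one_mul]
  have h3 : Agrees g (pack (fI a.val b.val)) := by
    apply agrees_pack
    intro i hi
    by_cases h : i < 23
    · rw [ofIdx_some h]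
      by_cases hi0 : i = 0
      · subst hi0
        have : ((0 : ℕ) : ZMod 23) = 0 := rfl
        rw [this, h0]; rfl
      · have hx : ((i : ℕ) : ZMod 23) ≠ 0 := by
          rw [Ne, ZMod.natCast_eq_zero_iff]
          exact fun hd => absurd (Nat.le_of_dvd (by omega) hd) (by omega)
        have hv : i = ((i : ℕ) : ZMod 23).val := by
          rw [ZMod.val_natCast, Nat.mod_eq_of_lt h]
        obtain ⟨k, hk11, hk | hk⟩ := res_cases _ hx
        · rw [hk, h1 k, toIdx_some]
          have e1 : ∀ k < 11, ((2 : ZMod 23) ^ k * 1).val ^ 11 % 23 = 1 ∧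
              ((2 : ZMod 23) ^ k * 1).val ^ 21 % 23 = ((12 : ZMod 23) ^ k).val := by decide +kernel
          have e2 := e1 k hk11
          rw [← hk, ← hv] at e2
          unfold fI
          rw [if_neg hi0, if_neg (by omega), if_pos e2.1]
          rw [ZMod.val_mul, e2.2]
        · rw [hk, h2 k, toIdx_some]
          have e1 : ∀ k < 11, ((2 : ZMod 23) ^ k * (-1)).val ^ 11 % 23 ≠ 1 ∧
              (23 - ((2 : ZMod 23) ^ k * (-1)).val) ^ 21 % 23 = ((12 : ZMod 23) ^ k).val := by
            decide +kernel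
          have e2 := e1 k hk11
          rw [← hk, ← hv] at e2
          unfold fI
          rw [if_neg hi0, if_neg (by omega), if_neg e2.1]
          rw [ZMod.val_mul, ← e2.2]
    · have h2 : i = 23 := by omega
      subst h2
      have : ofIdx 23 = none := rfl
      rw [this, hn]; rfl
  have h4 := h3.mem_M24_iff.1 hg
  have key : ∀ a < 23, a ≠ 0 → ∀ b < 23, b ≠ 0 → inM24 (pack (fI a b)) = false := by decide +kernel
  rw [key _ (ZMod.val_lt a) (by rwa [Ne, ZMod.val_eq_zero]) _
    (ZMod.val_lt b) (by rwa [Ne, ZMod.val_eq_zero])] at h4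
  exact Bool.false_ne_true h4

theorem M22_base : IsSimpleGroup (fx [bp 0, bp 23]) := by
  haveI : Fact (Nat.Prime 11) := ⟨by norm_num⟩
  have hT : S2 ∈ fx [bp 0, bp 23] := ⟨S2_mem, by
    have : ∀ p ∈ [bp 0, bp 23], S2 p = p := by decide
    exact this⟩
  have hord : orderOf (⟨S2, hT⟩ : fx [bp 0, bp 23]) = 11 := by
    apply orderOf_eq_prime
    · exact Subtype.ext S2_pow_11
    · intro h; exact S2_ne (congrArg Subtype.val h)
  refine CfsgL.simple_of_sylow 11 5 24 (by norm_num) (by norm_num) ⟨S2, hT⟩ hord ?_ ?_ ?_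
    (closure_sub gen2) ?_
  · rw [card_fx_base2]; norm_num
  · intro g hg
    have h1 : (g : Equiv.Perm GolayPt) * S2 = S2 * g := congrArg Subtype.val hg
    obtain ⟨k, hk⟩ := comm_S2 g.2.1 (g.2.2 (some 0) (by rw [bp23, bp0]; simp))
      (g.2.2 none (by rw [bp23]; simp)) h1
    rw [Subgroup.mem_zpowers_iff]
    refine ⟨k, ?_⟩
    apply Subtype.ext
    rw [hk]; simp
  · intro g hg
    exact not_inv_S2 g.2.1 (g.2.2 (some 0) (by rw [bp23, bp0]; simp))
      (g.2.2 none (by rw [bp23]; simp)) (congrArg Subtype.val hg)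
  · intro N hN hNb
    have h2 : MulAction.IsMultiplyPretransitive (fx [bp 0, bp 23]) (Om [bp 0, bp 23]) 2 := by
      apply Om_two_trans
      intro a b c d ha hb hc hd hab hcd
      simp only [List.mem_cons, List.not_mem_nil, or_false, not_or] at ha hb hc hd
      obtain ⟨f, hf⟩ := exists_other [bp 0, bp 23, a, b] (by simp)
      obtain ⟨f', hf'⟩ := exists_other [bp 0, bp 23, c, d] (by simp)
      simp only [List.mem_cons, List.not_mem_nil, or_false, not_or] at hf hf'
      have h023 : bp 0 ≠ bp 23 := by decide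
      obtain ⟨g, hg, h1, h2, h3, h4, h5⟩ := five_trans h023 (Ne.symm ha.1) (Ne.symm hb.1)
        (Ne.symm hf.1) (Ne.symm ha.2) (Ne.symm hb.2) (Ne.symm hf.2.1) hab (Ne.symm hf.2.2.1)
        (Ne.symm hf.2.2.2) h023 (Ne.symm hc.1) (Ne.symm hd.1)
        (Ne.symm hf'.1) (Ne.symm hc.2) (Ne.symm hd.2) (Ne.symm hf'.2.1) hcd (Ne.symm hf'.2.2.1)
        (Ne.symm hf'.2.2.2)
      refine ⟨g, ⟨hg, ?_⟩, h3, h4⟩
      intro p hp
      simp only [List.mem_cons, List.not_mem_nil, or_false] at hp
      rcases hp with rfl | rfl <;> assumption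
    haveI : Nonempty (Om [bp 0, bp 23]) := ⟨⟨bp 1, by
      change bp 1 ∉ [bp 0, bp 23]; decide⟩⟩
    have h3 := degree_dvd_normal h2 N hNb
    have h4 : Nat.card (Om [bp 0, bp 23]) = 22 := by
      have : Nat.card (Om [bp 0, bp 23]) = ({q | q ∉ [bp 0, bp 23]} : Set GolayPt).ncard := rfl
      rw [this, Set.ncard_eq_toFinset_card']; decide +kernel
    rw [h4] at h3
    exact dvd_trans (by norm_num) h3

/-- conjugation isomorphism between pointwise stabilisers -/
def fxMap {g : Equiv.Perm GolayPt} (hg : g ∈ M24) (L : List GolayPt) :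
    fx L ≃* fx (L.map g) where
  toFun h := ⟨g * h.1 * g⁻¹, by
    refine ⟨M24.mul_mem (M24.mul_mem hg h.2.1) (M24.inv_mem hg), fun p hp => ?_⟩
    obtain ⟨q, hq, rfl⟩ := List.mem_map.1 hp
    simp [h.2.2 q hq]⟩
  invFun h := ⟨g⁻¹ * h.1 * g, by
    refine ⟨M24.mul_mem (M24.mul_mem (M24.inv_mem hg) h.2.1) hg, fun p hp => ?_⟩
    have := h.2.2 (g p) (List.mem_map_of_mem hp)
    simp [this]⟩
  left_inv h := by ext; simp
  right_inv h := by ext; simp
  map_mul' h k := by
    apply Subtype.ext
    change g * (h.1 * k.1) * g⁻¹ = (g * h.1 * g⁻¹) * (g * k.1 * g⁻¹)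
    group

theorem simple_fx1 (a : GolayPt) : IsSimpleGroup (fx [a]) := by
  obtain ⟨g, hg, rfl⟩ := tr0_exists a
  have h := fxMap hg [bp 23]
  rw [List.map_cons, List.map_nil] at h
  exact h.isSimpleGroup_congr.1 M23_base

theorem simple_fx2 {a b : GolayPt} (hab : a ≠ b) : IsSimpleGroup (fx [a, b]) := by
  obtain ⟨c, hc⟩ := exists_other [a, b] (by simp)
  obtain ⟨d, hd⟩ := exists_other [a, b, c] (by simp)
  obtain ⟨e, he⟩ := exists_other [a, b, c, d] (by simp)
  simp only [List.mem_cons, List.not_mem_nil, or_false, not_or] at hc hd he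
  obtain ⟨g, hg, h1, h2, h3, h4, h5⟩ := base_to b a c d e (Ne.symm hab) (Ne.symm hc.2)
    (Ne.symm hd.2.1) (Ne.symm he.2.1) (Ne.symm hc.1) (Ne.symm hd.1) (Ne.symm he.1)
    (Ne.symm hd.2.2) (Ne.symm he.2.2.1) (Ne.symm he.2.2.2)
  have h := fxMap hg [bp 0, bp 23]
  have e : List.map g [bp 0, bp 23] = [a, b] := by simp [h1, h2]
  rw [e] at h
  exact h.isSimpleGroup_congr.1 M22_base

/-- the stabiliser inside `M24` -/
noncomputable def stabEquiv (L : List GolayPt) : (fx L).subgroupOf M24 ≃* fx L :=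
  Subgroup.subgroupOfEquivOfLe (fx_le L)

theorem simple_stab1 (p : GolayPt) : IsSimpleGroup (MulAction.stabilizer M24 p) := by
  rw [stabilizer_eq]
  exact (stabEquiv [p]).isSimpleGroup_congr.2 (simple_fx1 p)

theorem simple_stab2 {p q : GolayPt} (h : p ≠ q) :
    IsSimpleGroup ↥(MulAction.stabilizer M24 p ⊓ MulAction.stabilizer M24 q) := by
  rw [stabilizer_eq, stabilizer_eq, inf_subgroupOf, fx_inf]
  exact (stabEquiv ([p] ++ [q])).isSimpleGroup_congr.2 (simple_fx2 h)

theorem simple_M24 : IsSimpleGroup M24 := by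
  haveI : MulAction.IsMultiplyPretransitive M24 GolayPt 5 := five_transitive
  haveI : MulAction.IsMultiplyPretransitive M24 GolayPt 2 :=
    MulAction.isMultiplyPretransitive_of_le (n := 5) (by norm_num) (by
      rw [Nat.card_eq_fintype_card]; decide)
  refine CfsgL.simple_of_two_transitive (bp 23) (simple_stab1 _) 2 3 (by norm_num) (by norm_num)
    (by norm_num) ?_ ?_
  · rw [Nat.card_eq_fintype_card]; decide
  · rw [Nat.card_eq_fintype_card]; decide

end CfsgL.Golay
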