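import Cfsg.Agent.L.Golay.Basic
/-!
Weight enumerator, self-orthogonality and the Steiner system property of the Golay code.
-/
set_option autoImplicit false
namespace CfsgL.Golay
open Cfsg CfsgL.Comp

theorem encMset_injOn : Set.InjOn (fun x => mset (enc x)) (Finset.range 4096 : Set ℕ) := by
  intro x hx y hy h
  rw [Finset.coe_range, Set.mem_Iio] at hx hy
  exact (enc_inj hx hy).1 ((mset_inj (enc_lt x) (enc_lt y)).1 h)

/-- number of code supports with a Boolean property of the mask -/
theorem ncard_supports_filter (f : ℕ → Bool) (S : Set (Finset GolayPt))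
    (hS : ∀ s, s ∈ S ↔ ∃ x < 4096, f (enc x) = true ∧ s = mset (enc x)) :
    S.ncard = cntD (fun x => f (enc x)) 12 0 := by
  rw [cntD_zero_eq]
  have : S = ((Finset.range (2 ^ 12)).filter (fun x => f (enc x) = true)).image
      (fun x => mset (enc x)) := by
    ext s
    rw [hS, Finset.mem_coe, Finset.mem_image]
    constructor
    · rintro ⟨x, hx, h1, rfl⟩
      exact ⟨x, by rw [Finset.mem_filter, Finset.mem_range]; exact ⟨hx, h1⟩, rfl⟩
    · rintro ⟨x, hx, rfl⟩
      rw [Finset.mem_filter, Finset.mem_range] at hx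
      exact ⟨x, hx.1, hx.2, rfl⟩
  rw [this, Set.ncard_coe_finset, Finset.card_image_of_injOn]
  intro x hx y hy h
  rw [Finset.mem_coe, Finset.mem_filter] at hx hy
  exact encMset_injOn hx.1 hy.1 h

theorem ncard_wordsOfWeight (n : ℕ) :
    (wordsOfWeight (golayCode : Set (GolayPt → ZMod 2)) n).ncard =
      cntD (fun x => Nat.beq (pop24 (enc x)) n) 12 0 := by
  apply ncard_supports_filter (fun m => Nat.beq (pop24 m) n)
  intro s
  rw [mem_wordsOfWeight]
  simp only [natBeq_iff]

theorem cnt8 : cntD (fun x => Nat.beq (pop24 (enc x)) 8) 12 0 = 759 := by decide +kernel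
theorem cnt12 : cntD (fun x => Nat.beq (pop24 (enc x)) 12) 12 0 = 2576 := by decide +kernel
theorem cnt16 : cntD (fun x => Nat.beq (pop24 (enc x)) 16) 12 0 = 759 := by decide +kernel

theorem octads_ncard : octads.ncard = 759 := by
  unfold octads; rw [ncard_wordsOfWeight, cnt8]

theorem dodecads_ncard : dodecads.ncard = 2576 := by
  unfold dodecads; rw [ncard_wordsOfWeight, cnt12]

theorem mem_octads {s : Finset GolayPt} :
    s ∈ octads ↔ ∃ x < 4096, pop24 (enc x) = 8 ∧ s = mset (enc x) := mem_wordsOfWeight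

theorem mem_dodecads {s : Finset GolayPt} :
    s ∈ dodecads ↔ ∃ x < 4096, pop24 (enc x) = 12 ∧ s = mset (enc x) := mem_wordsOfWeight

theorem mem_octads' {s : Finset GolayPt} :
    s ∈ octads ↔ s ∈ supports (golayCode : Set (GolayPt → ZMod 2)) ∧ s.card = 8 := Iff.rfl

theorem mem_dodecads' {s : Finset GolayPt} :
    s ∈ dodecads ↔ s ∈ supports (golayCode : Set (GolayPt → ZMod 2)) ∧ s.card = 12 := Iff.rfl

theorem card_symmDiff_add {α : Type*} [DecidableEq α] (s t : Finset α) :
    (symmDiff s t).card + 2 * (s ∩ t).card = s.card + t.card := by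
  have h1 : (s \ t).card + (s ∩ t).card = s.card := Finset.card_sdiff_add_card_inter s t
  have h2 : (t \ s).card + (t ∩ s).card = t.card := Finset.card_sdiff_add_card_inter t s
  rw [Finset.inter_comm t s] at h2
  have h3 : (symmDiff s t).card = (s \ t).card + (t \ s).card := by
    rw [symmDiff_def, Finset.sup_eq_union, Finset.card_union_of_disjoint]
    exact disjoint_sdiff_sdiff
  omega

theorem symmDiff_card_of_supports {s t : Finset GolayPt}
    (hs : s ∈ supports (golayCode : Set (GolayPt → ZMod 2)))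
    (ht : t ∈ supports (golayCode : Set (GolayPt → ZMod 2))) :
    (symmDiff s t).card = 0 ∨ (symmDiff s t).card = 8 ∨ (symmDiff s t).card = 12 ∨
      (symmDiff s t).card = 16 ∨ (symmDiff s t).card = 24 :=
  card_of_mem_supports (symmDiff_mem_supports hs ht)

theorem even_inter_card {s t : Finset GolayPt}
    (hs : s ∈ supports (golayCode : Set (GolayPt → ZMod 2)))
    (ht : t ∈ supports (golayCode : Set (GolayPt → ZMod 2))) : Even (s ∩ t).card := by
  have h1 := card_of_mem_supports hs
  have h2 := card_of_mem_supports ht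
  have h3 := symmDiff_card_of_supports hs ht
  have h4 := card_symmDiff_add s t
  rw [Nat.even_iff]
  omega

theorem symmDiff_card_zero {α : Type*} [DecidableEq α] {s t : Finset α}
    (h : (symmDiff s t).card = 0) : s = t := by
  rw [Finset.card_eq_zero, ← Finset.bot_eq_empty, symmDiff_eq_bot] at h
  exact h

theorem octad_inter {s t : Finset GolayPt} (hs : s ∈ octads) (ht : t ∈ octads) (hst : s ≠ t) :
    (s ∩ t).card = 0 ∨ (s ∩ t).card = 2 ∨ (s ∩ t).card = 4 := by
  rw [mem_octads'] at hs ht
  have h3 := symmDiff_card_of_supports hs.1 ht.1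
  have h4 := card_symmDiff_add s t
  have h5 : (symmDiff s t).card ≠ 0 := fun h => hst (symmDiff_card_zero h)
  have h6 := hs.2
  have h7 := ht.2
  omega

theorem steiner : IsSteinerSystem 5 8 octads := by
  classical
  refine ⟨fun b hb => (mem_octads'.1 hb).2, ?_⟩
  have huniq : ∀ s : Finset GolayPt, s.card = 5 → ∀ b ∈ octads, ∀ c ∈ octads, s ⊆ b → s ⊆ c → b = c := by
    intro s hs b hb c hc h1 h2
    by_contra hne
    have h3 := octad_inter hb hc hne
    have h4 : s ⊆ b ∩ c := Finset.subset_inter h1 h2
    have h5 := Finset.card_le_card h4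
    omega
  have hfin : octads.Finite := Set.toFinite _
  -- count
  let F : Finset (Finset GolayPt) := hfin.toFinset
  have hF : ∀ b, b ∈ F ↔ b ∈ octads := fun b => hfin.mem_toFinset
  have hFcard : F.card = 759 := by
    rw [← octads_ncard, Set.ncard_eq_toFinset_card _ hfin]
  have hcov : (F.biUnion fun b => b.powersetCard 5).card = 42504 := by
    rw [Finset.card_biUnion]
    · have : ∀ b ∈ F, (b.powersetCard 5).card = 56 := by
        intro b hb
        rw [Finset.card_powersetCard, (mem_octads'.1 ((hF b).1 hb)).2]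
        rfl
      rw [Finset.sum_congr rfl this, Finset.sum_const, hFcard]; rfl
    · intro b hb c hc hne
      rw [Function.onFun, Finset.disjoint_left]
      intro s hs hs'
      rw [Finset.mem_powersetCard] at hs hs'
      exact hne (huniq s hs.2 b ((hF b).1 hb) c ((hF c).1 hc) hs.1 hs'.1)
  have hall : (F.biUnion fun b => b.powersetCard 5) = (Finset.univ : Finset GolayPt).powersetCard 5 := by
    apply Finset.eq_of_subset_of_card_le
    · intro s hs
      rw [Finset.mem_biUnion] at hs
      obtain ⟨b, _, hs⟩ := hs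
      rw [Finset.mem_powersetCard] at hs ⊢
      exact ⟨Finset.subset_univ _, hs.2⟩
    · rw [hcov, Finset.card_powersetCard]
      have : (Finset.univ : Finset GolayPt).card = 24 := by decide
      rw [this]; decide
  intro s hs
  have hmem : s ∈ (F.biUnion fun b => b.powersetCard 5) := by
    rw [hall, Finset.mem_powersetCard]; exact ⟨Finset.subset_univ _, hs⟩
  rw [Finset.mem_biUnion] at hmem
  obtain ⟨b, hb, hs'⟩ := hmem
  rw [Finset.mem_powersetCard] at hs'
  refine ⟨b, ⟨(hF b).1 hb, hs'.1⟩, ?_⟩
  rintro c ⟨hc, hsc⟩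
  exact huniq s hs c hc b ((hF b).1 hb) hsc hs'.1

theorem card_golayCode : Nat.card golayCode = 4096 := by
  have e : Fin 4096 ≃ golayCode := by
    refine Equiv.ofBijective (fun x => ⟨wordOf (enc x.1), wordOf_enc_mem _⟩) ⟨?_, ?_⟩
    · intro x y h
      have h1 := congrArg Subtype.val h
      simp only at h1
      exact Fin.ext ((enc_inj x.2 y.2).1 ((wordOf_inj (enc_lt _) (enc_lt _)).1 h1))
    · rintro ⟨w, hw⟩
      obtain ⟨x, hx, rfl⟩ := mem_golayCode.1 hw
      exact ⟨⟨x, hx⟩, rfl⟩
  rw [← Nat.card_congr e, Nat.card_fin]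

theorem finrank_golayCode : Module.finrank (ZMod 2) golayCode = 12 := by
  have h := Module.natCard_eq_pow_finrank (K := ZMod 2) (V := golayCode)
  rw [card_golayCode, Nat.card_zmod] at h
  have : (2 : ℕ) ^ 12 = 2 ^ Module.finrank (ZMod 2) golayCode := by rw [← h]; norm_num
  exact (Nat.pow_right_injective (le_refl 2) this).symm

theorem dot_eq (v w : GolayPt → ZMod 2) : ∑ i, v i * w i = ((support₂ v ∩ support₂ w).card : ZMod 2) := by
  rw [Finset.card_eq_sum_ones, Nat.cast_sum, ← Finset.sum_filter_add_sum_filter_not Finset.univ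
    (fun i => i ∈ support₂ v ∩ support₂ w)]
  have h2 : ∑ x ∈ Finset.univ.filter (fun i => ¬ i ∈ support₂ v ∩ support₂ w), v x * w x = 0 := by
    apply Finset.sum_eq_zero
    intro i hi
    rw [Finset.mem_filter] at hi
    have := hi.2
    simp only [support₂, Finset.mem_inter, Finset.mem_filter, Finset.mem_univ, true_and] at this
    by_cases h : v i = 0
    · rw [h, zero_mul]
    · have : w i = 0 := by by_contra h'; exact this ⟨h, h'⟩
      rw [this, mul_zero]
  rw [h2, add_zero]
  have h1 : Finset.univ.filter (fun i => i ∈ support₂ v ∩ support₂ w) = support₂ v ∩ support₂ w := by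
    ext i; simp
  rw [h1]
  apply Finset.sum_congr rfl
  intro i hi
  simp only [support₂, Finset.mem_inter, Finset.mem_filter, Finset.mem_univ, true_and] at hi
  have key : ∀ a b : ZMod 2, a ≠ 0 → b ≠ 0 → a * b = ((1 : ℕ) : ZMod 2) := by decide
  exact key _ _ hi.1 hi.2

theorem dot_golay (v w : GolayPt → ZMod 2) (hv : v ∈ golayCode) (hw : w ∈ golayCode) :
    ∑ i, v i * w i = 0 := by
  rw [dot_eq]
  have := even_inter_card (s := support₂ v) (t := support₂ w) ⟨v, hv, rfl⟩ ⟨w, hw, rfl⟩
  exact (ZMod.natCast_eq_zero_iff_even).2 this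

theorem hammingNorm_eq (w : GolayPt → ZMod 2) : hammingNorm w = (support₂ w).card := by
  unfold hammingNorm support₂; rfl

end CfsgL.Golay
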